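import Groth.Agent.Lib.TensorMod.Invertible
import Groth.Agent.Lib.VeryAmple11.BundleTwist
import Groth.Agent.Lib.ModLimH13.Hom1
import Groth.Agent.Lib.ModM1.Local
import Mathlib.LinearAlgebra.Matrix.NonsingularInverse

/-!
# Morphisms of free modules are matrices of global functions
-/

set_option autoImplicit false
set_option linter.style.haveILetI false
set_option backward.isDefEq.respectTransparency false
set_option backward.isDefEq.respectTransparency.types false

universe u

open CategoryTheory CategoryTheory.Limits AlgebraicGeometry Scheme.Modules Matrix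

namespace Groth.Agent.Quot18.MatHom

open Groth.Agent

variable {X T : Scheme.{u}} {a b c : ℕ}

/-- The coprojection. -/
noncomputable abbrev inj (X : Scheme.{u}) {a : ℕ} (j : Fin a) : Coh.structureModule X ⟶ FlatMod.freeMod X a :=
  Sigma.ι (fun _ : Fin a => Coh.structureModule X) j

/-- The projection. -/
noncomputable abbrev prj (X : Scheme.{u}) {a : ℕ} (i : Fin a) : FlatMod.freeMod X a ⟶ Coh.structureModule X :=
  Sigma.π (fun _ : Fin a => Coh.structureModule X) i

theorem sum_π_inj (X : Scheme.{u}) (n : ℕ) : ∑ j : Fin n, prj X j ≫ inj X j = 𝟙 _ := by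
  refine Sigma.hom_ext _ _ fun i => ?_
  rw [Preadditive.comp_sum, Category.comp_id, Finset.sum_eq_single i]
  · simp
  · intro j _ hj
    simp [Sigma.ι_π_assoc, Ne.symm hj]
  · simp

/-- The function by which an endomorphism of the structure module multiplies. -/
noncomputable def val (φ : Coh.structureModule X ⟶ Coh.structureModule X) : Γ(X, ⊤) :=
  show Γ(X, ⊤) from φ.app ⊤ (M1.one ⊤)

theorem app_top (φ : Coh.structureModule X ⟶ Coh.structureModule X) (f : Γ(X, ⊤)) :
    (show Γ(X, ⊤) from φ.app ⊤ (show Γ(Coh.structureModule X, ⊤) from f)) = f * val φ := by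
  have h := Scheme.Modules.Hom.app_smul φ f (M1.one (X := X) ⊤)
  have e : (f • M1.one (X := X) ⊤ : Γ(Coh.structureModule X, ⊤)) = (show Γ(Coh.structureModule X, ⊤) from f) :=
    mul_one (f : Γ(X, ⊤))
  rw [e] at h
  exact h

theorem val_comp (φ ψ : Coh.structureModule X ⟶ Coh.structureModule X) : val (φ ≫ ψ) = val φ * val ψ :=
  app_top ψ (val φ)

theorem val_id : val (𝟙 (Coh.structureModule X)) = 1 := rfl

theorem val_zero : val (0 : Coh.structureModule X ⟶ Coh.structureModule X) = 0 := rfl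

/-- `val` as an additive map. -/
noncomputable def valHom (X : Scheme.{u}) : (Coh.structureModule X ⟶ Coh.structureModule X) →+ Γ(X, ⊤) where
  toFun := val
  map_zero' := rfl
  map_add' _ _ := rfl

theorem val_injective {φ ψ : Coh.structureModule X ⟶ Coh.structureModule X} (h : val φ = val ψ) : φ = ψ :=
  M1.unit_hom_ext h

/-- The multiplication by a function. -/
noncomputable def scal (f : Γ(X, ⊤)) : Coh.structureModule X ⟶ Coh.structureModule X :=
  M1.secHom (show Γ(Coh.structureModule X, ⊤) from f)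

theorem val_scal (f : Γ(X, ⊤)) : val (scal f) = f := M1.secHom_app_one _

/-- The matrix of a morphism of free modules. -/
noncomputable def mat (φ : FlatMod.freeMod X a ⟶ FlatMod.freeMod X b) : Matrix (Fin b) (Fin a) Γ(X, ⊤) :=
  Matrix.of fun i j => val (inj X j ≫ φ ≫ prj X i)

theorem mat_injective {φ ψ : FlatMod.freeMod X a ⟶ FlatMod.freeMod X b} (h : mat φ = mat ψ) : φ = ψ := by
  have key : ∀ i, φ ≫ prj X i = ψ ≫ prj X i := fun i =>
    Sigma.hom_ext _ _ fun j => val_injective (congrFun (congrFun h i) j)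
  calc φ = φ ≫ ∑ i, prj X i ≫ inj X i := by rw [sum_π_inj X b, Category.comp_id]
    _ = ψ ≫ ∑ i, prj X i ≫ inj X i := by simp only [Preadditive.comp_sum, ← Category.assoc, key]
    _ = ψ := by rw [sum_π_inj X b, Category.comp_id]

/-- The morphism of a matrix. -/
noncomputable def hom (M : Matrix (Fin b) (Fin a) Γ(X, ⊤)) : FlatMod.freeMod X a ⟶ FlatMod.freeMod X b :=
  Sigma.desc fun j => ∑ i, scal (M i j) ≫ inj X i

theorem inj_prj (i j : Fin a) : inj X j ≫ prj X i = if j = i then 𝟙 _ else 0 := by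
  by_cases h : j = i
  · subst h
    rw [if_pos rfl]
    exact Sigma.ι_π_eq_id _ _
  · rw [if_neg h]
    exact Sigma.ι_π_of_ne _ h

theorem mat_hom (M : Matrix (Fin b) (Fin a) Γ(X, ⊤)) : mat (hom M) = M := by
  ext i j
  rw [mat, Matrix.of_apply, hom, Sigma.ι_desc_assoc, Preadditive.sum_comp,
    Finset.sum_eq_single i (fun l _ hl => by rw [Category.assoc, inj_prj, if_neg hl, comp_zero])
      (fun h => absurd (Finset.mem_univ i) h),
    Category.assoc, inj_prj, if_pos rfl, Category.comp_id, val_scal]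

theorem hom_mat (φ : FlatMod.freeMod X a ⟶ FlatMod.freeMod X b) : hom (mat φ) = φ :=
  mat_injective (mat_hom _)

theorem mat_comp (φ : FlatMod.freeMod X a ⟶ FlatMod.freeMod X b) (ψ : FlatMod.freeMod X b ⟶ FlatMod.freeMod X c) :
    mat (φ ≫ ψ) = mat ψ * mat φ := by
  ext i j
  have e : inj X j ≫ (φ ≫ ψ) ≫ prj X i = ∑ l, (inj X j ≫ φ ≫ prj X l) ≫ inj X l ≫ ψ ≫ prj X i := by
    conv_lhs => rw [← Category.comp_id φ, ← sum_π_inj X b]
    simp only [Preadditive.comp_sum, Preadditive.sum_comp, Category.assoc]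
  rw [mat, Matrix.of_apply, Matrix.mul_apply, e]
  exact (map_sum (valHom X) _ _).trans (Finset.sum_congr rfl fun l _ => (val_comp (inj X j ≫ φ ≫ prj X l) (inj X l ≫ ψ ≫ prj X i)).trans (mul_comm _ _))

theorem mat_id : mat (𝟙 (FlatMod.freeMod X a)) = 1 := by
  ext i j
  rw [mat, Matrix.of_apply, Category.id_comp, inj_prj, Matrix.one_apply]
  by_cases h : i = j
  · rw [if_pos h.symm, if_pos h, val_id]
  · rw [if_neg (Ne.symm h), if_neg h, val_zero]

theorem isIso_hom {M : Matrix (Fin a) (Fin a) Γ(X, ⊤)} (h : IsUnit M.det) : IsIso (hom M) :=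
  ⟨hom M⁻¹, mat_injective (by rw [mat_comp, mat_hom, mat_hom, Matrix.nonsing_inv_mul M h, mat_id]),
    mat_injective (by rw [mat_comp, mat_hom, mat_hom, Matrix.mul_nonsing_inv M h, mat_id])⟩

theorem isUnit_det (φ : FlatMod.freeMod X a ⟶ FlatMod.freeMod X a) [IsIso φ] : IsUnit (mat φ).det := by
  refine IsUnit.of_mul_eq_one (mat (inv φ)).det ?_
  rw [← Matrix.det_mul, ← mat_comp, IsIso.inv_hom_id, mat_id, Matrix.det_one]

/-- The pullback of a morphism of free modules. -/
noncomputable def pull (h : T ⟶ X) (φ : FlatMod.freeMod X a ⟶ FlatMod.freeMod X b) :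
    FlatMod.freeMod T a ⟶ FlatMod.freeMod T b :=
  (M2.freeModPullbackIso h a).inv ≫ (Scheme.Modules.pullback h).map φ ≫ (M2.freeModPullbackIso h b).hom

theorem inj_freeModPullbackIso_inv (h : T ⟶ X) (j : Fin a) :
    inj T j ≫ (M2.freeModPullbackIso h a).inv =
      (PicLoc.pullbackStructureIso h).inv ≫ (Scheme.Modules.pullback h).map (inj X j) := by
  simp [M2.freeModPullbackIso]

theorem freeModPullbackIso_hom_prj (h : T ⟶ X) (i : Fin a) :
    (M2.freeModPullbackIso h a).hom ≫ prj T i =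
      (Scheme.Modules.pullback h).map (prj X i) ≫ (PicLoc.pullbackStructureIso h).hom := by
  rw [← cancel_epi (M2.freeModPullbackIso h a).inv, Iso.inv_hom_id_assoc]
  refine Sigma.hom_ext _ _ fun j => ?_
  rw [inj_prj, reassoc_of% inj_freeModPullbackIso_inv, ← Functor.map_comp_assoc, inj_prj]
  by_cases hji : j = i
  · simp [hji]
  · haveI : (Scheme.Modules.pullback h).Additive :=
      (pullbackPushforwardAdjunction h).left_adjoint_additive
    simp [hji]

theorem val_pullback (h : T ⟶ X) (ψ : Coh.structureModule X ⟶ Coh.structureModule X) :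
    val ((PicLoc.pullbackStructureIso h).inv ≫ (Scheme.Modules.pullback h).map ψ ≫
      (PicLoc.pullbackStructureIso h).hom) = h.appTop (val ψ) := by
  have h1 : (PicLoc.pullbackStructureIso h).inv.app (h ⁻¹ᵁ ⊤) (M1.one (h ⁻¹ᵁ ⊤)) =
      M2.pullSec h (Coh.structureModule X) (M1.one (X := X) ⊤) := by
    have e := VA11.pullbackStructureIso_pullSec h (V := ⊤) (M1.one (X := X) ⊤)
    have e' : (show Γ(Coh.structureModule T, h ⁻¹ᵁ ⊤) from h.app ⊤ (show Γ(X, ⊤) from M1.one (X := X) ⊤)) =
        M1.one (h ⁻¹ᵁ ⊤) := map_one (h.app ⊤).hom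
    rw [e'] at e
    rw [← e]
    exact ConcreteCategory.congr_hom (congrArg (fun φ => φ.app (h ⁻¹ᵁ ⊤)) (PicLoc.pullbackStructureIso h).hom_inv_id) _
  show (PicLoc.pullbackStructureIso h).hom.app (h ⁻¹ᵁ ⊤) (((Scheme.Modules.pullback h).map ψ).app (h ⁻¹ᵁ ⊤)
    ((PicLoc.pullbackStructureIso h).inv.app (h ⁻¹ᵁ ⊤) (M1.one (h ⁻¹ᵁ ⊤)))) = _
  rw [h1, Amp.map_pullSec, VA11.pullbackStructureIso_pullSec]
  rfl

theorem mat_pull (h : T ⟶ X) (φ : FlatMod.freeMod X a ⟶ FlatMod.freeMod X b) :
    mat (pull h φ) = (mat φ).map h.appTop := by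
  ext i j
  rw [mat, mat, Matrix.map_apply, Matrix.of_apply, Matrix.of_apply, ← val_pullback h]
  congr 1
  simp only [pull, Category.assoc, Functor.map_comp, freeModPullbackIso_hom_prj]
  rw [reassoc_of% inj_freeModPullbackIso_inv]

end Groth.Agent.Quot18.MatHom
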