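import Groth.Agent.Lib.Exact8.StalkBC2

/-!
# Base change of a short exact sequence with relatively flat cokernel
-/

set_option autoImplicit false
set_option backward.isDefEq.respectTransparency false
set_option backward.isDefEq.respectTransparency.types false
set_option linter.style.haveILetI false
set_option maxHeartbeats 3000000

universe u

open CategoryTheory CategoryTheory.Limits AlgebraicGeometry TensorProduct

namespace Groth.Agent.Quot18

open Groth.Agent Groth.Agent.Exact8 KFlat KFlat.Sch DBaseChange

section Ring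

variable {A A' : Type u} [CommRing A] [CommRing A'] (σ : A →+* A')

/-- Extending scalars along any ring map keeps a map injective if its cokernel is flat. -/
theorem mono_extendScalars (S : ShortComplex (ModuleCat.{u} A)) (hS : S.ShortExact) [Module.Flat A S.X₃] :
    Mono ((ModuleCat.extendScalars.{u, u, u} σ).map S.f) := by
  letI := σ.toAlgebra
  rw [ModuleCat.mono_iff_injective]
  exact LinearMap.lTensor_injective_of_exact_of_flat S.g.hom
    ((ModuleCat.epi_iff_surjective _).1 hS.epi_g) S.f.hom ((ModuleCat.mono_iff_injective _).1 hS.mono_f)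
    ((ShortComplex.ShortExact.moduleCat_exact_iff_function_exact S).1 hS.exact) A'

variable {B B' : Type u} [CommRing B] [CommRing B'] (φ : A →+* B) (ρ : BC σ φ →+* B')

/-- Base change of a short exact sequence of modules with relatively flat cokernel. -/
theorem mono_bc (hρ : ρ.Flat) (ψ : B →+* B') (h2 : ρ.comp (inclR σ φ) = ψ) (S : ShortComplex (ModuleCat.{u} B))
    (hS : S.ShortExact) (hf : Module.Flat A ((ModuleCat.restrictScalars.{u} φ).obj S.X₃)) :
    Mono ((ModuleCat.extendScalars.{u, u, u} ψ).map S.f) := by
  haveI : Module.Flat A (S.map (ModuleCat.restrictScalars.{u} φ)).X₃ := hf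
  have h := mono_extendScalars σ _ (hS.map_of_exact (ModuleCat.restrictScalars.{u} φ))
  haveI : Mono ((ModuleCat.extendScalars.{u, u, u} (inclR σ φ) ⋙ ModuleCat.restrictScalars.{u} (inclL σ φ)).map S.f) :=
    ((MorphismProperty.monomorphisms _).arrow_mk_iso_iff
      (((Functor.mapArrowFunctor _ _).mapIso (bcIso σ φ)).app (Arrow.mk S.f))).2 h
  haveI : Mono ((ModuleCat.extendScalars.{u, u, u} (inclR σ φ)).map S.f) :=
    (ModuleCat.restrictScalars.{u} (inclL σ φ)).mono_of_mono_map
      (inferInstanceAs (Mono ((ModuleCat.extendScalars.{u, u, u} (inclR σ φ) ⋙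
        ModuleCat.restrictScalars.{u} (inclL σ φ)).map S.f)))
  haveI := ModuleCat.preservesFiniteLimits_extendScalars_of_flat.{u} hρ
  haveI hc : Mono ((ModuleCat.extendScalars.{u, u, u} (inclR σ φ) ⋙ ModuleCat.extendScalars.{u, u, u} ρ).map S.f) :=
    inferInstanceAs (Mono ((ModuleCat.extendScalars.{u, u, u} ρ).map
      ((ModuleCat.extendScalars.{u, u, u} (inclR σ φ)).map S.f)))
  exact ((MorphismProperty.monomorphisms _).arrow_mk_iso_iff
    (((Functor.mapArrowFunctor _ _).mapIso ((ModuleCat.extendScalarsComp (inclR σ φ) ρ).symm ≪≫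
      eqToIso (congrArg ModuleCat.extendScalars.{u, u, u} h2))).app (Arrow.mk S.f))).1 hc

end Ring

variable {X Y X' Y' : Scheme.{u}} {g : X' ⟶ X} {f' : X' ⟶ Y'} {f : X ⟶ Y} {h : Y' ⟶ Y}

/-- Base change of a short exact sequence with relatively flat cokernel. -/
theorem shortExact_pullback_relFlat (sq : IsPullback g f' f h) {S : ShortComplex X.Modules} (hS : S.ShortExact)
    (h₃ : FlatMod.IsFlatOver f S.X₃) : (S.map (Scheme.Modules.pullback g)).ShortExact := by
  haveI := (Scheme.Modules.pullbackPushforwardAdjunction g).leftAdjoint_preservesColimits.{0, 0}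
  haveI := hS.epi_g
  haveI : Epi ((Scheme.Modules.pullback g).map S.g) := inferInstance
  haveI hm : Mono ((Scheme.Modules.pullback g).map S.f) := by
    refine (KFlat.Sch.mono_iff_stalk _).2 fun x => ?_
    obtain ⟨ρ, h1, h2, hρ⟩ := exists_rho sq x
    have hex : (S.map (stF (g x))).ShortExact := by
      haveI := hS.mono_f
      haveI : Epi ((stF (g x)).map S.g) := inferInstance
      haveI : Mono ((stF (g x)).map S.f) :=
        (ModuleCat.mono_iff_injective _).2 ((KFlat.Sch.mono_iff_stalk S.f).1 inferInstance (g x))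
      exact ShortComplex.ShortExact.mk' ((exact_iff_stF _).1 hS.exact (g x)) (by assumption) (by assumption)
    have h0 : Module.Flat _ ((ModuleCat.restrictScalars.{u} (f.stalkMap (g x)).hom).obj (S.map (stF (g x))).X₃) :=
      RelPCS8.StalkId.flat_of_iso ((ModuleCat.restrictScalars.{u} (f.stalkMap (g x)).hom).mapIso
        ((RelPCS8.TorTensor.stalkFunctorIso (g x)).app S.X₃)) (h₃ (g x))
    have hbc : Mono ((ModuleCat.extendScalars.{u, u, u} (g.stalkMap x).hom).map ((stF (g x)).map S.f)) :=
      mono_bc (baseMap sq x).hom (f.stalkMap (g x)).hom ρ hρ (g.stalkMap x).hom h2 (S.map (stF (g x))) hex h0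
    have h3 : Mono ((Scheme.Modules.pullback g ⋙ stF x).map S.f) :=
      ((MorphismProperty.monomorphisms _).arrow_mk_iso_iff
        (((Functor.mapArrowFunctor _ _).mapIso (pullStalkNatIso g x)).app (Arrow.mk S.f))).2
        hbc
    exact (ModuleCat.mono_iff_injective ((stF x).map ((Scheme.Modules.pullback g).map S.f))).1 h3
  refine ShortComplex.ShortExact.mk' ?_ hm (by assumption)
  haveI := hS.mono_f
  exact (hS.exact.map_of_epi_of_preservesCokernel (Scheme.Modules.pullback g) hS.epi_g inferInstance)

end Groth.Agent.Quot18
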