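import Groth.Agent.Lib.Quot18.GrUniv
import Groth.Agent.Lib.ProjSpace.BaseChange
import Groth.Agent.Lib.CMReg18.ProjTw
import Groth.Prelude.Def_GrassD

/-!
# Grassmannians of free modules exist over every base and are projective
-/

set_option autoImplicit false
set_option linter.style.haveILetI false
set_option backward.isDefEq.respectTransparency false
set_option backward.isDefEq.respectTransparency.types false
set_option maxHeartbeats 1600000

universe u

open CategoryTheory CategoryTheory.Limits AlgebraicGeometry Scheme.Modules TopologicalSpace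

namespace Groth.Agent.Quot18.GrC

open Groth.Agent Groth.Agent.GrassLib MatHom

attribute [local irreducible] ChartSet.pt

variable {N k : ℕ}

/-- The morphism classifies the quotient. -/
def Cl {T : Scheme.{u}} {L : T.Modules} (s : FlatMod.freeMod T N ⟶ L) (h : T ⟶ Gr0.{u} N k) : Prop :=
  ∃ e : (Scheme.Modules.pullback h).obj (Qu.{u} N k) ≅ L, pullQ h (qu N k) ≫ e.hom = s

theorem Cl.comp {T T' : Scheme.{u}} {L : T.Modules} {s : FlatMod.freeMod T N ⟶ L} {h : T ⟶ Gr0.{u} N k}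
    (hs : Cl s h) (a : T' ⟶ T) : Cl (pullQ a s) (a ≫ h) := by
  obtain ⟨e, rfl⟩ := hs
  refine ⟨((ModLimH13.cmp a h rfl).app _).symm ≪≫ (Scheme.Modules.pullback a).mapIso e, ?_⟩
  rw [← pullQ_comp h a rfl (qu N k)]
  simp only [pullQ, Iso.trans_hom, Iso.symm_hom, Iso.app_inv, Category.assoc, Iso.hom_inv_id_app_assoc,
    Functor.mapIso_hom, Functor.map_comp]

theorem Cl.locus_eq (hk : k ≤ N) {T : Scheme.{u}} {L : T.Modules} {s : FlatMod.freeMod T N ⟶ L}
    {h : T ⟶ Gr0.{u} N k} (hs : Cl s h) (σ : Fin k ↪ Fin N) :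
    locus σ s = h ⁻¹' Set.range (j0.{u} σ) := by
  obtain ⟨e, rfl⟩ := hs
  rw [locus_comp_iso, locus_pullQ (rank_qu hk), locus_qu hk]

/-- Morphisms to a chart are determined by the matrix. -/
theorem chart_ext (σ : Fin k ↪ Fin N) {T : Scheme.{u}} {a b : T ⟶ U0.{u} σ}
    (h : (m0.{u} σ).map a.appTop = (m0.{u} σ).map b.appTop) : a = b := by
  refine ext_of_isAffine ?_
  rw [← cancel_epi (Scheme.ΓSpecIso (CommRingCat.of (CR RZ.{u} σ))).inv]
  refine CommRingCat.hom_ext (MvPolynomial.ringHom_ext' (subsingleton_ringHom_RZ _ _) fun v => ?_)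
  have e := congrFun (congrFun h v.1) v.2.1
  simp only [m0, Matrix.map_apply, M, Matrix.of_apply, freeEll_apply_compl] at e
  exact e

/-- A normalized matrix gives a morphism to a chart. -/
theorem chart_exists (σ : Fin k ↪ Fin N) {T : Scheme.{u}} (A : Matrix (Fin k) (Fin N) Γ(T, ⊤))
    (hA : A.submatrix id σ = 1) : ∃ a : T ⟶ U0.{u} σ, (m0.{u} σ).map a.appTop = A := by
  let φ : CR RZ.{u} σ →+* Γ(T, ⊤) :=
    MvPolynomial.eval₂Hom ((Int.castRingHom Γ(T, ⊤)).comp ULift.ringEquiv.toRingHom) fun v => A v.1 v.2.1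
  refine ⟨T.toSpecΓ ≫ Spec.map (CommRingCat.ofHom φ), ?_⟩
  have e : (Scheme.ΓSpecIso (CommRingCat.of (CR RZ.{u} σ))).inv ≫
      (T.toSpecΓ ≫ Spec.map (CommRingCat.ofHom φ)).appTop = CommRingCat.ofHom φ := by
    rw [Scheme.Hom.comp_appTop, Scheme.toSpecΓ_appTop, ← Scheme.ΓSpecIso_inv_naturality_assoc, Iso.inv_hom_id,
      Category.comp_id]
  ext i c
  rw [m0, Matrix.map_map, Matrix.map_apply]
  refine (RingHom.congr_fun (congrArg CommRingCat.Hom.hom e) (M RZ.{u} σ i c)).trans ?_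
  show φ (freeEll (bas RZ.{u}) σ (bas RZ.{u} c) i) = A i c
  by_cases hc : c ∈ Set.range σ
  · obtain ⟨l, rfl⟩ := hc
    rw [freeEll_apply_range, Pi.single_apply]
    have := congrFun (congrFun hA i) l
    rw [Matrix.submatrix_apply, id, Matrix.one_apply] at this
    rw [this]
    split <;> simp
  · rw [show c = (⟨c, hc⟩ : {c : Fin N // c ∉ Set.range σ}).1 from rfl, freeEll_apply_compl]
    exact MvPolynomial.eval₂Hom_X' _ _ _

/-- On a chart a classified quotient is given by the matrix. -/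
theorem Cl.chart (hk : k ≤ N) {T : Scheme.{u}} {L : T.Modules} {s : FlatMod.freeMod T N ⟶ L}
    {σ : Fin k ↪ Fin N} {a : T ⟶ U0.{u} σ} (hs : Cl s (a ≫ j0 σ)) :
    ∃ ψ : FlatMod.freeMod T k ≅ L, MatHom.hom ((m0.{u} σ).map a.appTop) ≫ ψ.hom = s ∧ ψ.hom = sel σ T ≫ s := by
  obtain ⟨e, rfl⟩ := hs
  obtain ⟨e', he'⟩ := exists_pullQ_qu.{u} hk σ
  let ψ : FlatMod.freeMod T k ≅ L := (M2.freeModPullbackIso a k).symm ≪≫
    (Scheme.Modules.pullback a).mapIso e'.symm ≪≫ (ModLimH13.cmp a (j0.{u} σ) rfl).app _ ≪≫ e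
  have h1 : MatHom.hom ((m0.{u} σ).map a.appTop) ≫ ψ.hom = pullQ (a ≫ j0 σ) (qu N k) ≫ e.hom := by
    have h2 : MatHom.hom ((m0.{u} σ).map a.appTop) ≫ (M2.freeModPullbackIso a k).inv =
        pullQ a (MatHom.hom (m0.{u} σ)) := by
      rw [show MatHom.hom ((m0.{u} σ).map a.appTop) = MatHom.pull a (MatHom.hom (m0.{u} σ)) from
        mat_injective (by rw [mat_pull, mat_hom, mat_hom]), MatHom.pull, pullQ]
      simp
    rw [← pullQ_comp (j0.{u} σ) a rfl (qu N k)]
    simp only [ψ, Iso.trans_hom, Iso.symm_hom, Functor.mapIso_hom, Iso.app_hom]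
    rw [reassoc_of% h2, ← he']
    simp [pullQ]
  refine ⟨ψ, h1, ?_⟩
  rw [← h1, ← Category.assoc]
  have : sel σ T ≫ MatHom.hom ((m0.{u} σ).map a.appTop) = 𝟙 _ := mat_injective (by
    rw [mat_sel_comp, mat_hom, mat_id, Matrix.submatrix_map, m0_block, Matrix.map_one _ (map_zero _) (map_one _)])
  rw [this, Category.id_comp]

/-- The classifying morphism is unique. -/
theorem Cl.unique (hk : k ≤ N) {T : Scheme.{u}} {L : T.Modules} (hL : FlatMod.IsFinLocFreeOfRank k L)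
    {s : FlatMod.freeMod T N ⟶ L} [Epi s] {h h' : T ⟶ Gr0.{u} N k} (hs : Cl s h) (hs' : Cl s h') : h = h' := by
  let 𝒰 : T.OpenCover := Scheme.openCoverOfIsOpenCover T (fun σ : Fin k ↪ Fin N => ⟨locus σ s, isOpen_locus hL σ s⟩)
    (top_le_iff.1 fun t _ => Opens.mem_iSup.2 (exists_mem_locus hL s t))
  refine 𝒰.hom_ext _ _ fun (σ : Fin k ↪ Fin N) => ?_
  let U : T.Opens := ⟨locus σ s, isOpen_locus hL σ s⟩
  show U.ι ≫ h = U.ι ≫ h'
  have hr : ∀ {g : T ⟶ Gr0.{u} N k}, Cl s g → Set.range (U.ι ≫ g) ⊆ Set.range (j0.{u} σ) := fun {g} hg => by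
    rintro _ ⟨x, rfl⟩
    have hx : U.ι x ∈ locus σ s := x.2
    rw [hg.locus_eq hk] at hx
    exact hx
  let a := IsOpenImmersion.lift (j0.{u} σ) _ (hr hs)
  let a' := IsOpenImmersion.lift (j0.{u} σ) _ (hr hs')
  have ha : a ≫ j0 σ = U.ι ≫ h := IsOpenImmersion.lift_fac _ _ _
  have ha' : a' ≫ j0 σ = U.ι ≫ h' := IsOpenImmersion.lift_fac _ _ _
  rw [← ha, ← ha']
  obtain ⟨ψ, h1, h2⟩ := Cl.chart hk (by rw [ha]; exact hs.comp U.ι : Cl (pullQ U.ι s) (a ≫ j0 σ))
  obtain ⟨ψ', h1', h2'⟩ := Cl.chart hk (by rw [ha']; exact hs'.comp U.ι : Cl (pullQ U.ι s) (a' ≫ j0 σ))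
  refine congrArg (· ≫ j0 σ) (chart_ext σ ?_)
  rw [← h1', h2, ← h2', cancel_mono] at h1
  rw [← mat_hom ((m0.{u} σ).map a.appTop), h1, mat_hom]

/-- Every quotient is classified. -/
theorem exists_cl (hk : k ≤ N) {T : Scheme.{u}} {L : T.Modules} (hL : FlatMod.IsFinLocFreeOfRank k L)
    (s : FlatMod.freeMod T N ⟶ L) [Epi s] : ∃ h : T ⟶ Gr0.{u} N k, Cl s h := by
  let U : (Fin k ↪ Fin N) → T.Opens := fun σ => ⟨locus σ s, isOpen_locus hL σ s⟩
  let 𝒰 : T.OpenCover := Scheme.openCoverOfIsOpenCover T U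
    (top_le_iff.1 fun t _ => Opens.mem_iSup.2 (exists_mem_locus hL s t))
  have hloc : ∀ σ, ∃ g : (U σ : Scheme.{u}) ⟶ Gr0.{u} N k, Cl (pullQ (U σ).ι s) g := fun σ => by
    haveI := epi_pullQ (U σ).ι s
    haveI : IsIso (sel σ (U σ : Scheme.{u}) ≫ pullQ (U σ).ι s) := by
      refine isIso_of_locus_eq_univ (M2.isFinLocFreeOfRank_pullback _ hL) σ _ ?_
      rw [locus_pullQ hL]
      exact Set.eq_univ_of_forall fun x => x.2
    let ψ := asIso (sel σ (U σ : Scheme.{u}) ≫ pullQ (U σ).ι s)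
    let A := mat (pullQ (U σ).ι s ≫ ψ.inv)
    obtain ⟨a, ha⟩ := chart_exists σ A (by
      rw [← mat_sel_comp, ← Category.assoc]
      exact (congrArg mat ψ.hom_inv_id).trans mat_id)
    obtain ⟨e', he'⟩ := exists_pullQ_qu.{u} hk σ
    refine ⟨a ≫ j0 σ, ((ModLimH13.cmp a (j0.{u} σ) rfl).app _).symm ≪≫ (Scheme.Modules.pullback a).mapIso e' ≪≫
      M2.freeModPullbackIso a k ≪≫ ψ, ?_⟩
    rw [← pullQ_comp (j0.{u} σ) a rfl (qu N k)]
    simp only [Iso.trans_hom, Iso.symm_hom, Iso.app_inv, Category.assoc, Iso.hom_inv_id_app_assoc, Functor.mapIso_hom]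
    rw [pullQ, Category.assoc, ← Functor.map_comp_assoc, he']
    have e : (M2.freeModPullbackIso a N).inv ≫ (Scheme.Modules.pullback a).map (MatHom.hom (m0.{u} σ)) ≫
        (M2.freeModPullbackIso a k).hom = MatHom.hom A :=
      mat_injective (by
        show mat (MatHom.pull a (MatHom.hom (m0.{u} σ))) = _
        rw [mat_pull, mat_hom, ha, mat_hom])
    rw [reassoc_of% e, hom_mat, Category.assoc, Iso.inv_hom_id, Category.comp_id]
  choose g hg using hloc
  have hagree : ∀ σ τ, pullback.fst (U σ).ι (U τ).ι ≫ g σ = pullback.snd (U σ).ι (U τ).ι ≫ g τ := fun σ τ => by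
    let p₁ := pullback.fst (U σ).ι (U τ).ι
    let p₂ := pullback.snd (U σ).ι (U τ).ι
    have h1 := (hg σ).comp p₁
    have h2 := (hg τ).comp p₂
    haveI := epi_pullQ (p₁ ≫ (U σ).ι) s
    refine Cl.unique hk (M2.isFinLocFreeOfRank_pullback (p₁ ≫ (U σ).ι) hL) (s := pullQ (p₁ ≫ (U σ).ι) s) ?_ ?_
    · obtain ⟨e, he⟩ := h1
      exact ⟨e ≪≫ (ModLimH13.cmp p₁ (U σ).ι rfl).app L, by
        rw [Iso.trans_hom, ← Category.assoc, he]; exact pullQ_comp _ _ rfl s⟩
    · obtain ⟨e, he⟩ := h2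
      exact ⟨e ≪≫ (ModLimH13.cmp p₂ (U τ).ι pullback.condition.symm).app L, by
        rw [Iso.trans_hom, ← Category.assoc, he]; exact pullQ_comp _ _ _ s⟩
  refine ⟨𝒰.glueMorphisms g hagree, ?_⟩
  let h := 𝒰.glueMorphisms g hagree
  have hι : ∀ σ, (U σ).ι ≫ h = g σ := fun σ => 𝒰.ι_glueMorphisms g hagree σ
  haveI := epi_pullQ h (qu.{u} N k)
  have hz : kernel.ι (pullQ h (qu.{u} N k)) ≫ s = 0 := by
    refine ZeroLocus10.hom_eq_zero_of_cover _ (fun σ => (U σ).ι) (fun x => ?_) fun σ => ?_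
    · obtain ⟨σ, hσ⟩ := exists_mem_locus hL s x
      exact ⟨σ, ⟨x, hσ⟩, rfl⟩
    · haveI := (pullbackPushforwardAdjunction (U σ).ι).left_adjoint_additive
      obtain ⟨e, he⟩ := hg σ
      have key2 : ∀ (r : FlatMod.freeMod T N ⟶ (Scheme.Modules.pullback h).obj (Qu.{u} N k))
          (c : (Scheme.Modules.pullback (U σ).ι).obj ((Scheme.Modules.pullback h).obj (Qu.{u} N k)) ⟶
            (Scheme.Modules.pullback (g σ)).obj (Qu.{u} N k)),
          (pullQ (U σ).ι r ≫ c) ≫ e.hom = pullQ (U σ).ι s →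
            (Scheme.Modules.pullback (U σ).ι).map r ≫ c ≫ e.hom = (Scheme.Modules.pullback (U σ).ι).map s :=
        fun r c hrc => by
          simp only [pullQ, Category.assoc, cancel_epi] at hrc
          exact hrc
      have e2 := pullQ_comp h (U σ).ι (hι σ) (qu.{u} N k)
      rw [← e2] at he
      rw [Functor.map_comp, ← key2 _ _ he, ← Functor.map_comp_assoc, kernel.condition, Functor.map_zero, zero_comp]
  obtain ⟨l, hl⟩ :=
    CokernelCofork.IsColimit.desc' (ShortComplex.exact_kernel (pullQ h (qu.{u} N k))).gIsCokernel s hz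
  haveI : Epi l := by
    haveI : Epi (pullQ h (qu.{u} N k) ≫ l) := by erw [hl]; infer_instance
    exact epi_of_epi (pullQ h (qu.{u} N k)) l
  change pullQ h (qu.{u} N k) ≫ l = s at hl
  haveI := PairIso.isIso_of_epi_rank (M2.isFinLocFreeOfRank_pullback h (rank_qu hk)) hL l
  exact ⟨asIso l, hl⟩

/-- The Grassmannian of a free module exists over every base and is a closed subscheme of a projective space. -/
theorem exists_isGrass_free (S : Scheme.{u}) {N k : ℕ} (hk : k ≤ N) :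
    ∃ (G : Scheme.{u}) (π : G ⟶ S) (Q : G.Modules)
      (q : (Scheme.Modules.pullback π).obj (FlatMod.freeMod S N) ⟶ Q),
      Grass.IsGrass π (FlatMod.freeMod S N) k Q q ∧
      ∃ (m : ℕ) (c : G ⟶ CohB1.ProjSpaceOver m S),
        IsClosedImmersion c ∧ c ≫ CohB1.ProjSpaceOver.toBase m S = π := by
  let b := (X0 RZ.{u} N k).hom
  let t : S ⟶ Spec (CommRingCat.of RZ.{u}) := specULiftZIsTerminal.from S
  let π := pullback.snd b t
  let p := pullback.fst b t
  refine ⟨pullback b t, π, (Scheme.Modules.pullback p).obj (Qu.{u} N k),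
    (M2.freeModPullbackIso π N).hom ≫ pullQ p (qu N k),
    ⟨M2.isFinLocFreeOfRank_pullback p (rank_qu hk), ?_, fun T g L hL s hs => ?_⟩, ?_⟩
  · haveI := epi_pullQ p (qu.{u} N k)
    exact epi_comp _ _
  · let s' := (M2.freeModPullbackIso g N).inv ≫ s
    haveI : Epi s' := epi_comp _ _
    have key : ∀ (h : T ⟶ pullback b t) (hg : h ≫ π = g) (e : (Scheme.Modules.pullback h).obj
        ((Scheme.Modules.pullback p).obj (Qu.{u} N k)) ≅ L),
        Grass.quotBC hg ((M2.freeModPullbackIso π N).hom ≫ pullQ p (qu N k)) ≫ e.hom = s ↔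
          pullQ (h ≫ p) (qu N k) ≫ ((ModLimH13.cmp h p rfl).inv.app _ ≫ e.hom) = s' := fun h hg e => by
      have h3 := freeModPullbackIso_comp h π hg N
      have hq : Grass.quotBC hg ((M2.freeModPullbackIso π N).hom ≫ pullQ p (qu N k)) =
          (M2.freeModPullbackIso g N).hom ≫ pullQ h (pullQ p (qu N k)) := by
        have hpre : (pullbackCongr hg).inv.app (FlatMod.freeMod S N) ≫ (pullbackComp h π).inv.app (FlatMod.freeMod S N) ≫
            (Scheme.Modules.pullback h).map (M2.freeModPullbackIso π N).hom =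
              (M2.freeModPullbackIso g N).hom ≫ (M2.freeModPullbackIso h N).inv := by
          rw [← cancel_epi ((ModLimH13.cmp h π hg).hom.app (FlatMod.freeMod S N)), reassoc_of% h3, Iso.hom_inv_id,
            Category.comp_id]
          simp [ModLimH13.cmp]
        simp only [Grass.quotBC, pullQ, Functor.map_comp]
        rw [reassoc_of% hpre]
      rw [hq, ← pullQ_comp p h rfl (qu N k), Category.assoc, Category.assoc, Iso.hom_inv_id_app_assoc,
        ← Iso.eq_inv_comp]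
    obtain ⟨h₀, e₀, he₀⟩ := exists_cl hk hL s'
    let h : T ⟶ pullback b t := pullback.lift h₀ g (specULiftZIsTerminal.hom_ext _ _)
    have hh₀ : h ≫ p = h₀ := pullback.lift_fst _ _ _
    have hhg : h ≫ π = g := pullback.lift_snd _ _ _
    refine ⟨h, ⟨hhg, ?_⟩, fun h' ⟨hg', e', he'⟩ => ?_⟩
    · have gen : ∀ (h₁ : T ⟶ Gr0.{u} N k) (w : h ≫ p = h₁) (e₁ : (Scheme.Modules.pullback h₁).obj (Qu.{u} N k) ≅ L),
          pullQ h₁ (qu N k) ≫ e₁.hom = s' →
            pullQ (h ≫ p) (qu N k) ≫ ((ModLimH13.cmp h p rfl).inv.app _ ≫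
              ((ModLimH13.cmp h p w).app _ ≪≫ e₁).hom) = s' := by
        rintro _ rfl e₁ he₁
        simpa using he₁
      exact ⟨(ModLimH13.cmp h p hh₀).app _ ≪≫ e₀, (key h hhg _).2 (gen h₀ hh₀ e₀ he₀)⟩
    · refine pullback.hom_ext ?_ (hg'.trans hhg.symm)
      show h' ≫ p = h ≫ p
      rw [hh₀]
      refine Cl.unique hk hL (s := s') ?_ ⟨e₀, he₀⟩
      exact ⟨((ModLimH13.cmp h' p rfl).app _).symm ≪≫ e', (key h' hg' e').1 he'⟩
  · obtain ⟨c, hc, hcb⟩ := (rep RZ.{u} N k).exists_plucker (bas RZ.{u}) hk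
    haveI := hc
    let m := N.choose k - 1
    have sq := CMReg18.isPullback_projMap m t
    let c' : pullback b t ⟶ CohB1.ProjSpaceOver m S :=
      sq.lift (p ≫ c) π (by rw [Category.assoc, hcb]; exact pullback.condition)
    refine ⟨m, c', ?_, sq.lift_snd _ _ _⟩
    have sq' : IsPullback p c' c (FGA.projMap m t) := by
      refine IsPullback.of_bot ?_ (sq.lift_fst _ _ _).symm sq
      rw [sq.lift_snd, hcb]
      exact IsPullback.of_hasPullback b t
    exact MorphismProperty.of_isPullback (P := @IsClosedImmersion) sq' hc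

end Groth.Agent.Quot18.GrC
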