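import Groth.Agent.Lib.CohFound.ClosedImmPush
import Groth.Agent.Lib.ModM1.Coh

/-!
# The unit of a closed immersion
-/

set_option autoImplicit false
set_option linter.style.haveILetI false
set_option backward.isDefEq.respectTransparency false

universe u

open CategoryTheory CategoryTheory.Limits AlgebraicGeometry

namespace Groth.Agent.Quot18

variable {X Z : Scheme.{u}} (i : Z ⟶ X) [IsClosedImmersion i]

/-- The unit of a closed immersion is an epimorphism on quasi-coherent modules. -/
theorem epi_unit_closedImm (A : X.Modules) (hA : Coh.IsQCoh A) :
    Epi ((Scheme.Modules.pullbackPushforwardAdjunction i).unit.app A) := by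
  let adj := Scheme.Modules.pullbackPushforwardAdjunction i
  let η := adj.unit.app A
  let π := cokernel.π η
  have hG : Coh.IsQCoh ((Scheme.Modules.pushforward i).obj ((Scheme.Modules.pullback i).obj A)) :=
    M1.isQCoh_push i (M1.isQCoh_pullback i hA)
  have hC : Coh.IsQCoh (cokernel η) := M1.isQCoh_cokernel hA hG η
  haveI : Mono (adj.unit.app (cokernel η)) := by
    haveI := M1.isIso_unit_of_ker_smul i (cokernel η) hC fun U a ha s => by
      obtain ⟨t, rfl⟩ := M1.app_surjective_affine_of_isQCoh hG hC π U.2 s
      exact ((Scheme.Modules.Hom.app_smul π a t).symm.trans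
        ((congrArg (π.app U.1) (CohFound.ker_smul_push i _ U a ha t)).trans (map_zero _)))
    infer_instance
  haveI := adj.left_adjoint_additive
  haveI := CohFound.isIso_counit_closedImm i _ (M1.isQCoh_pullback i hA)
  haveI : IsIso ((Scheme.Modules.pullback i).map η) := by
    have h := adj.left_triangle_components A
    haveI : IsIso ((Scheme.Modules.pullback i).map η ≫ adj.counit.app ((Scheme.Modules.pullback i).obj A)) := by
      change IsIso ((Scheme.Modules.pullback i).map (adj.unit.app A) ≫ _)
      rw [h]
      exact IsIso.id _
    exact IsIso.of_isIso_comp_right _ (adj.counit.app ((Scheme.Modules.pullback i).obj A))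
  have h1 : (Scheme.Modules.pullback i).map π = 0 := by
    rw [← cancel_epi ((Scheme.Modules.pullback i).map η), ← Functor.map_comp, cokernel.condition, Functor.map_zero,
      comp_zero]
  have h2 : π = 0 := by
    rw [← cancel_mono (adj.unit.app (cokernel η)), zero_comp]
    haveI := adj.right_adjoint_additive
    refine (adj.unit.naturality π).trans ?_
    show adj.unit.app _ ≫ (Scheme.Modules.pushforward i).map ((Scheme.Modules.pullback i).map π) = 0
    rw [h1, Functor.map_zero, comp_zero]
  exact Abelian.epi_of_cokernel_π_eq_zero η h2

end Groth.Agent.Quot18
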