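import Groth.Agent.Lib.Quot18.PnSec
import Groth.Agent.Lib.CMReg18.TwistBC

/-!
# Quotients of a twisted sum on projective space are determined by the direct images
-/

set_option autoImplicit false
set_option linter.style.haveILetI false
set_option backward.isDefEq.respectTransparency false
set_option maxHeartbeats 1600000

universe u

open CategoryTheory CategoryTheory.Limits AlgebraicGeometry Scheme.Modules

namespace Groth.Agent.Quot18

open Groth.Agent Groth.Agent.CMReg18

theorem sqMap_comp {X S T W : Scheme.{u}} {f : X ⟶ S} (t : T ⟶ S) (P : W ⟶ T) (p : W ⟶ X) (w : P ≫ t = p ≫ f)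
    {V : S.Modules} {A E : X.Modules} (σ : (Scheme.Modules.pullback f).obj V ⟶ A) (q : A ⟶ E) :
    sqMap t P p w (σ ≫ q) = sqMap t P p w σ ≫ (Scheme.Modules.pullback p).map q := by
  simp only [sqMap, Functor.map_comp, Category.assoc]

theorem imageSubobject_comp_of_eq {C : Type*} [Category C] [Abelian C] {M A E K : C} (a : M ⟶ A) (s : A ⟶ E)
    (m : K ⟶ A) [Mono m] (h : imageSubobject a = Subobject.mk m) :
    imageSubobject (a ≫ s) = imageSubobject (m ≫ s) := by
  have h' : imageSubobject a = imageSubobject m := by rw [h, imageSubobject_mono]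
  have key : ∀ {N : C} (b : N ⟶ A), imageSubobject (b ≫ s) = imageSubobject ((imageSubobject b).arrow ≫ s) := fun b => by
    conv_lhs => rw [← imageSubobject_arrow_comp b, Category.assoc, QuotExt3.imageSubobject_epi_comp]
  rw [key a, key m, h']

variable (n : ℕ) {S : Scheme.{u}}

/-- Quotients with the given Hilbert polynomial of a sufficiently twisted sum have regular kernels. -/
theorem exists_pn_good (p : ℕ) (ν : ℤ) (Φ : Polynomial ℚ) :
    ∃ d₀ : ℤ, ∀ d : ℤ, d₀ ≤ d → 0 ≤ ν + d ∧
      ∀ (S : Scheme.{u}) (N : ℕ) (E : (CohB1.ProjSpaceOver n S).Modules) (q : Tws n p (ν + d) S ⟶ E) [Epi q]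
        (σ₁ : (Scheme.Modules.pullback (CohB1.ProjSpaceOver.toBase n S)).obj (FlatMod.freeMod S N) ⟶ Tws n p (ν + d) S),
        Epi ((pullbackPushforwardAdjunction (CohB1.ProjSpaceOver.toBase n S)).homEquiv _ _ σ₁) →
        ∀ (T : Over S) [IsLocallyNoetherian T.left] (K : FGA.QuotSet (CohB1.ProjSpaceOver.toBase n S) E T),
          (∀ t : T.left, t ∈ hilbLocus (PicF.XTproj (CohB1.ProjSpaceOver.toBase n S) T) (cokernel K.1.arrow)
            ((Scheme.Modules.pullback (pullback.fst (CohB1.ProjSpaceOver.toBase n S) T.hom)).obj (O1 n S))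
            (Φ.comp (Polynomial.X + Polynomial.C (d : ℚ)))) →
          Epi (toPush (CohB1.ProjSpaceOver.toBase n S) (σ₁ ≫ q) T (cokernel.π K.1.arrow)) ∧
          FlatMod.IsFinLocFreeOfRank ⌊Φ.eval (d : ℚ)⌋₊
            ((Scheme.Modules.pushforward (PicF.XTproj (CohB1.ProjSpaceOver.toBase n S) T)).obj (cokernel K.1.arrow)) ∧
          imageSubobject (rel (CohB1.ProjSpaceOver.toBase n S) (σ₁ ≫ q) T
            (kernel.ι (toPush (CohB1.ProjSpaceOver.toBase n S) (σ₁ ≫ q) T (cokernel.π K.1.arrow)))) = K.1 := by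
  obtain ⟨d₀, hd₀⟩ := exists_reg_iso.{u} n p ν Φ
  refine ⟨max d₀ (-ν), fun d hd => ⟨by omega, fun S N E q _ σ₁ hσ₁ T _ K hK => ?_⟩⟩
  let π := CohB1.ProjSpaceOver.toBase n S
  let P := PicF.XTproj π T
  let g := pullback.fst π T.hom
  have hsq : IsPullback g P π T.hom := IsPullback.of_hasPullback π T.hom
  haveI : IsProper P := MorphismProperty.of_isPullback (P := @IsProper) hsq inferInstance
  haveI : LocallyOfFinitePresentation P :=
    MorphismProperty.of_isPullback (P := @LocallyOfFinitePresentation) hsq inferInstance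
  haveI : IsLocallyNoetherian (PicF.XT π T) := LocallyOfFiniteType.isLocallyNoetherian P
  haveI := (pullbackPushforwardAdjunction g).leftAdjoint_preservesColimits.{0, 0}
  let A := Tws n p (ν + d) S
  let F := cokernel K.1.arrow
  let p' : (Scheme.Modules.pullback g).obj A ⟶ F := (Scheme.Modules.pullback g).map q ≫ cokernel.π K.1.arrow
  haveI : Epi p' := epi_comp _ _
  have hA : Coh.IsCoh ((Scheme.Modules.pullback g).obj A) :=
    (M1.isCoh_iff_isFP _).2 (M1.isFP_pullback g (isFP_tws n p _ S))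
  have hAfl : FlatMod.IsFlatOver P ((Scheme.Modules.pullback g).obj A) :=
    Exact8.isFlatOver_pullback hsq (isFlatOver_tws n p _ S)
  have hfib : ∀ t : T.left,
      Subsingleton (Coh.HH (P.fiber t) (kernel ((Scheme.Modules.pullback (P.fiberι t)).map p')) 1) ∧
      Curv2.IsGloballyGenerated (kernel ((Scheme.Modules.pullback (P.fiberι t)).map p')) ∧
      (∀ i : ℕ, 1 ≤ i → Subsingleton (CohIII.fiberH P F t i)) ∧
      CohIII.fiberRank P F 0 t = ⌊Φ.eval (d : ℚ)⌋₊ := fun t => by
    let κ : Type u := T.left.residueField t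
    letI : (P.fiber t).Over (Spec (CommRingCat.of κ)) := ⟨P.fiberToSpecResidueField t⟩
    obtain ⟨e, he, hek, htw⟩ := exists_fibre_iso n hsq t
    haveI := he
    haveI := (pullbackPushforwardAdjunction (P.fiberι t)).leftAdjoint_preservesColimits.{0, 0}
    obtain ⟨iA⟩ := nonempty_pullback_tws n p (P.fiberι t ≫ g) (ν + d) (htw _)
    have hΦ : ∀ l : ℕ, (Curv2.euler κ (P.fiber t) (((projData κ n).pullback e).tw
        ((Scheme.Modules.pullback (P.fiberι t)).obj F) (l : ℤ)) : ℚ) = Φ.eval ((l : ℚ) + (d : ℚ)) := fun l => by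
      obtain ⟨i⟩ := htw l
      obtain ⟨j⟩ := nonempty_twistPow n S l
      have h := hK t l
      rw [Polynomial.eval_comp, Polynomial.eval_add, Polynomial.eval_X, Polynomial.eval_C] at h
      rw [← h]
      refine congrArg (fun z : ℤ => (z : ℚ)) ?_
      exact CurveCoh17.euler_iso (k := κ) (M2.tensorIso (Iso.refl _)
          (i.symm ≪≫ ((pullbackComp (P.fiberι t) g).app _).symm ≪≫
            (Scheme.Modules.pullback (P.fiberι t)).mapIso
              ((Scheme.Modules.pullback g).mapIso j ≪≫ M2.pullTensorPowIso g (O1 n S) l)) ≪≫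
        (M2.pullTensorIso (P.fiberι t) F (CohB1.tensorPow ((Scheme.Modules.pullback g).obj (O1 n S)) l)).symm)
    obtain ⟨h1, h2, h3, h4⟩ := hd₀ d (le_trans (le_max_left _ _) hd) κ (P.fiber t) e hek _ _
      (((pullbackComp (P.fiberι t) g).app A) ≪≫ iA) ((Scheme.Modules.pullback (P.fiberι t)).map p') inferInstance
      (M1.isQCoh_pullback _ hA.1) (M1.isCoh_pullback (P.fiberι t) K.2.1) hΦ
    refine ⟨h2, h3, h1, ?_⟩
    rw [← h4, Nat.floor_natCast]
    rfl
  obtain ⟨hpush, hrank, hcounit⟩ := push_of_fibres p' hA K.2.1 hAfl K.2.2 _ (fun t => (hfib t).1)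
    (fun t => (hfib t).2.1) (fun t => (hfib t).2.2.1) (fun t => (hfib t).2.2.2)
  let adj := pullbackPushforwardAdjunction P
  let ψ := adj.homEquiv _ _ (sqMap T.hom P g pullback.condition.symm σ₁)
  haveI hψ : Epi ψ := epi_homEquiv_sqMap (isFP_tws n p _ S) (isFlatOver_tws n p _ S)
    (subsingleton_fiberH_tws n p (by omega) S) σ₁ hσ₁ hsq
  have htp : toPush π (σ₁ ≫ q) T (cokernel.π K.1.arrow) = ψ ≫ (Scheme.Modules.pushforward P).map p' := by
    rw [toPush, sqMap_comp, Category.assoc]
    exact Adjunction.homEquiv_naturality_right _ _ _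
  haveI := hpush
  haveI := hcounit
  refine ⟨by rw [htp]; exact epi_comp _ _, hrank, ?_⟩
  have hrel : rel π (σ₁ ≫ q) T (kernel.ι (ψ ≫ (Scheme.Modules.pushforward P).map p')) =
      ((Scheme.Modules.pullback P).map (kernel.ι (ψ ≫ (Scheme.Modules.pushforward P).map p')) ≫
        (adj.homEquiv _ _).symm ψ) ≫ (Scheme.Modules.pullback g).map q := by
    rw [rel, sqMap_comp, Equiv.symm_apply_apply, Category.assoc]
  rw [htp, hrel, imageSubobject_comp_of_eq _ _ (kernel.ι p') (imageSubobject_rel_kernel p' ψ),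
    imageSubobject_kernel_comp, mk_kernel_cokernel]

end Groth.Agent.Quot18
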