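import Groth.Agent.Lib.QuotExt3.Pull
import Groth.Agent.Lib.VB17.Pair
import Groth.Agent.Lib.CMReg18.FibHilb
import Groth.Agent.Lib.FlatTwist13.Main
import Groth.Agent.Lib.TensorMod.PullTensor

/-!
# Quotients of a twisted module
-/

set_option autoImplicit false
set_option linter.style.haveILetI false
set_option backward.isDefEq.respectTransparency false
set_option backward.isDefEq.respectTransparency.types false
set_option maxHeartbeats 800000

universe u

open CategoryTheory CategoryTheory.Limits AlgebraicGeometry Scheme.Modules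

namespace Groth.Agent.Quot18

open Groth.Agent Groth.Agent.QuotExt3 ModLimH13

theorem pullCmp_comp {W Z Y : Scheme.{u}} (p : W ⟶ Z) (g : Z ⟶ Y) {h : W ⟶ Y} (w : p ≫ g = h) (A B : Y.Modules) :
    (Scheme.Modules.pullback p).map (M2.pullCmp g A B) ≫ M2.pullCmp p _ _ ≫
        M2.tensorMap ((cmp p g w).hom.app A) ((cmp p g w).hom.app B) =
      (cmp p g w).hom.app (CohB1.tensorMod A B) ≫ M2.pullCmp h A B := by
  subst w
  have e : ∀ (M : Y.Modules), (cmp p g rfl).hom.app M = (pullbackComp p g).hom.app M := fun M => Category.comp_id _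
  rw [e, e, e]
  refine ((Scheme.Modules.pullbackPushforwardAdjunction p).homEquiv _ _).injective ?_
  refine ((Scheme.Modules.pullbackPushforwardAdjunction g).homEquiv _ _).injective ?_
  refine M2.tensorMod_hom_ext fun U s t => ?_
  rw [Adjunction.homEquiv_unit, Adjunction.homEquiv_unit, Adjunction.homEquiv_unit, Adjunction.homEquiv_unit]
  show (M2.tensorMap ((pullbackComp p g).hom.app A) ((pullbackComp p g).hom.app B)).app (p ⁻¹ᵁ g ⁻¹ᵁ U)
      ((M2.pullCmp p _ _).app (p ⁻¹ᵁ g ⁻¹ᵁ U)
        (((Scheme.Modules.pullback p).map (M2.pullCmp g A B)).app (p ⁻¹ᵁ g ⁻¹ᵁ U)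
          (M2.pullSec p _ (M2.pullSec g _ (M2.tsec A B s t))))) =
    (M2.pullCmp (p ≫ g) A B).app (p ⁻¹ᵁ g ⁻¹ᵁ U)
      (((pullbackComp p g).hom.app _).app (p ⁻¹ᵁ g ⁻¹ᵁ U) (M2.pullSec p _ (M2.pullSec g _ (M2.tsec A B s t))))
  rw [pullbackComp_pullSec]
  erw [M2.pullCmp_pullSec (p ≫ g) A B (U := U) s t]
  refine Eq.trans (congrArg (fun z => (M2.tensorMap _ _).app _ ((M2.pullCmp p _ _).app _ z))
    ((Amp.map_pullSec p _ _).trans (congrArg (M2.pullSec p _) (M2.pullCmp_pullSec g A B s t)))) ?_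
  erw [M2.pullCmp_pullSec p _ _ (U := g ⁻¹ᵁ U)]
  erw [M2.tensorMap_tsec]
  erw [pullbackComp_pullSec, pullbackComp_pullSec]

theorem imageSubobject_congr_hom {C : Type*} [Category C] [Abelian C] {A B : C} {a b : A ⟶ B} (h : a = b) :
    imageSubobject a = imageSubobject b := by
  subst h
  rfl

theorem pullCmp_natural_left {W Z : Scheme.{u}} (p : W ⟶ Z) {A A' : Z.Modules} (a : A ⟶ A') (B : Z.Modules) :
    (Scheme.Modules.pullback p).map (M2.tensorMap a (𝟙 B)) ≫ M2.pullCmp p A' B =
      M2.pullCmp p A B ≫ M2.tensorMap ((Scheme.Modules.pullback p).map a) (𝟙 _) :=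
  (KFlat.Sch.natural_pullTensorIso₂ p).left a B

variable {X S : Scheme.{u}} (f : X ⟶ S) (E L₀ : X.Modules)

/-- The pullback of the twisting module. -/
noncomputable abbrev twMod (T : Over S) : (PicF.XT f T).Modules :=
  (Scheme.Modules.pullback (pullback.fst f T.hom)).obj L₀

/-- The twist of the pullback is the pullback of the twist. -/
noncomputable def twτ (T : Over S) :
    CohB1.tensorMod (FGA.ET f E T) (twMod f L₀ T) ≅ FGA.ET f (CohB1.tensorMod E L₀) T :=
  (M2.pullTensorIso (pullback.fst f T.hom) E L₀).symm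

/-- The twist of a subobject. -/
noncomputable def twK (T : Over S) (K : Subobject (FGA.ET f E T)) :
    Subobject (FGA.ET f (CohB1.tensorMod E L₀) T) :=
  imageSubobject ((M2.tensorR (twMod f L₀ T)).map K.arrow ≫ (twτ f E L₀ T).hom)

variable {L₀} (hL₀ : PicF.IsInvertible L₀)
include hL₀

theorem isEquiv_twMod (T : Over S) : (M2.tensorR (twMod f L₀ T)).IsEquivalence :=
  VB17.isEquivalence_tensorR (PicLoc.isInvertible_pullback _ hL₀)

theorem nonempty_cokernel_twK (T : Over S) (K : Subobject (FGA.ET f E T)) :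
    Nonempty (CohB1.tensorMod (cokernel K.arrow) (twMod f L₀ T) ≅ cokernel (twK f E L₀ T K).arrow) := by
  haveI := isEquiv_twMod f hL₀ T
  let G := M2.tensorR (twMod f L₀ T)
  let b := G.map K.arrow ≫ (twτ f E L₀ T).hom
  exact ⟨PreservesCokernel.iso G K.arrow ≪≫ (cokernelCompIsIso (G.map K.arrow) (twτ f E L₀ T).hom).symm ≪≫
    cokernelIsoOfEq (imageSubobject_arrow_comp b).symm ≪≫
      cokernelEpiComp (factorThruImageSubobject b) (imageSubobject b).arrow⟩

theorem twK_injective (T : Over S) : Function.Injective (twK f E L₀ T) := by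
  haveI := isEquiv_twMod f hL₀ T
  intro K K' h
  let G := M2.tensorR (twMod f L₀ T)
  haveI : Mono (G.map K.arrow) := inferInstance
  haveI : Mono (G.map K'.arrow) := inferInstance
  unfold twK at h
  rw [imageSubobject_mono, imageSubobject_mono] at h
  have h' := Subobject.isoOfMkEqMk _ _ h
  have hc : (Subobject.isoOfMkEqMk _ _ h).hom ≫ G.map K'.arrow ≫ (twτ f E L₀ T).hom =
      G.map K.arrow ≫ (twτ f E L₀ T).hom := Subobject.ofMkLEMk_comp _
  rw [← Category.assoc] at hc
  have hc' := (cancel_mono _).1 hc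
  refine Subobject.eq_of_comm (G.preimageIso (Subobject.isoOfMkEqMk _ _ h)) (G.map_injective ?_)
  rw [Functor.map_comp, Functor.preimageIso_hom, Functor.map_preimage]
  exact hc'

theorem twK_surjective (T : Over S) : Function.Surjective (twK f E L₀ T) := by
  haveI := isEquiv_twMod f hL₀ T
  intro K'
  let G := M2.tensorR (twMod f L₀ T)
  let e := G.objObjPreimageIso (K' : (PicF.XT f T).Modules)
  let φ : G.objPreimage (K' : (PicF.XT f T).Modules) ⟶ FGA.ET f E T :=
    G.preimage (e.hom ≫ K'.arrow ≫ (twτ f E L₀ T).inv)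
  have hφ : G.map φ = e.hom ≫ K'.arrow ≫ (twτ f E L₀ T).inv := G.map_preimage _
  haveI : Mono φ := by
    haveI : Mono (G.map φ) := by rw [hφ]; infer_instance
    exact G.mono_of_mono_map (f := φ) inferInstance
  refine ⟨Subobject.mk φ, ?_⟩
  haveI : Mono (G.map (Subobject.mk φ).arrow) := inferInstance
  rw [twK, imageSubobject_mono]
  refine Subobject.mk_eq_of_comm _ (G.mapIso (Subobject.underlyingIso φ) ≪≫ e) ?_
  have h : G.map (Subobject.mk φ).arrow = G.map (Subobject.underlyingIso φ).hom ≫ G.map φ := by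
    rw [← Functor.map_comp, Subobject.underlyingIso_hom_comp_eq_mk]
  rw [h, hφ]
  simp [G]

omit hL₀ in
theorem preservesColimits_tensorR' (T : Over S) (hT : (M2.tensorR (twMod f L₀ T)).IsEquivalence) {A B : (PicF.XT f T).Modules}
    (a : A ⟶ B) [Epi a] : Epi ((M2.tensorR (twMod f L₀ T)).map a) := by
  haveI := hT
  infer_instance

/-- Twisting commutes with pullback. -/
theorem quotPull_twK {T U : Over S} (g : U ⟶ T) (K : Subobject (FGA.ET f E T)) :
    FGA.quotPull f (CohB1.tensorMod E L₀) g (twK f E L₀ T K) = twK f E L₀ U (FGA.quotPull f E g K) := by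
  let q := PicF.XTmap f g
  haveI := (pullbackPushforwardAdjunction q).leftAdjoint_preservesColimits.{0, 0}
  haveI := isEquiv_twMod f hL₀ U
  let aT := (M2.tensorR (twMod f L₀ T)).map K.arrow ≫ (twτ f E L₀ T).hom
  let aU := (Scheme.Modules.pullback q).map K.arrow ≫ (FGA.ETiso f E g).hom
  let GU := M2.tensorR (twMod f L₀ U)
  have hl : FGA.quotPull f (CohB1.tensorMod E L₀) g (twK f E L₀ T K) =
      imageSubobject ((Scheme.Modules.pullback q).map aT ≫ (FGA.ETiso f (CohB1.tensorMod E L₀) g).hom) := by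
    show imageSubobject ((Scheme.Modules.pullback q).map (imageSubobject aT).arrow ≫ _) = _
    rw [← imageSubobject_epi_comp ((Scheme.Modules.pullback q).map (factorThruImageSubobject aT)),
      ← Category.assoc, ← Functor.map_comp, imageSubobject_arrow_comp]
  have hr : twK f E L₀ U (FGA.quotPull f E g K) = imageSubobject (GU.map aU ≫ (twτ f E L₀ U).hom) := by
    show imageSubobject (GU.map (imageSubobject aU).arrow ≫ _) = _
    rw [← imageSubobject_epi_comp (GU.map (factorThruImageSubobject aU)),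
      ← Category.assoc, ← Functor.map_comp, imageSubobject_arrow_comp]
  rw [hl, hr]
  let c₀ := (cmp q (pullback.fst f T.hom) (FGA.XTmap_fst f g)).app L₀
  let pre : (Scheme.Modules.pullback q).obj (CohB1.tensorMod (K : (PicF.XT f T).Modules) (twMod f L₀ T)) ⟶
      CohB1.tensorMod ((Scheme.Modules.pullback q).obj (K : (PicF.XT f T).Modules)) (twMod f L₀ U) :=
    (M2.pullTensorIso q _ _).hom ≫ (M2.tensorIso (Iso.refl _) c₀).hom
  suffices h : (Scheme.Modules.pullback q).map aT ≫ (FGA.ETiso f (CohB1.tensorMod E L₀) g).hom =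
      pre ≫ GU.map aU ≫ (twτ f E L₀ U).hom by
    exact (imageSubobject_congr_hom h).trans (imageSubobject_epi_comp _ _)
  have h1 := pullCmp_comp q (pullback.fst f T.hom) (FGA.XTmap_fst f g) E L₀
  rw [← etiso_hom f (CohB1.tensorMod E L₀) g, ← etiso_hom f E g] at h1
  have h2 : M2.tensorMap ((Scheme.Modules.pullback q).map K.arrow) (𝟙 _) ≫
      M2.tensorMap (FGA.ETiso f E g).hom c₀.hom =
      M2.tensorMap (𝟙 _) c₀.hom ≫ M2.tensorMap aU (𝟙 _) := by
    rw [← M2.tensorMap_comp, ← M2.tensorMap_comp, Category.id_comp, Category.id_comp, Category.comp_id]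
  rw [← cancel_mono (M2.pullCmp (pullback.fst f U.hom) E L₀)]
  have hU : (twτ f E L₀ U).hom ≫ M2.pullCmp (pullback.fst f U.hom) E L₀ = 𝟙 _ :=
    (M2.pullTensorIso (pullback.fst f U.hom) E L₀).inv_hom_id
  have hT : (Scheme.Modules.pullback q).map (twτ f E L₀ T).hom ≫
      (Scheme.Modules.pullback q).map (M2.pullCmp (pullback.fst f T.hom) E L₀) = 𝟙 _ := by
    rw [← Functor.map_comp]
    exact (congrArg _ (M2.pullTensorIso (pullback.fst f T.hom) E L₀).inv_hom_id).trans (CategoryTheory.Functor.map_id _ _)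
  simp only [Category.assoc]
  erw [hU, Category.comp_id, ← h1]
  simp only [aT, Functor.map_comp, Category.assoc]
  rw [reassoc_of% hT]
  show (Scheme.Modules.pullback q).map (M2.tensorMap K.arrow (𝟙 (twMod f L₀ T))) ≫
      M2.pullCmp q _ _ ≫ M2.tensorMap (FGA.ETiso f E g).hom c₀.hom = _
  rw [← Category.assoc, pullCmp_natural_left, Category.assoc]
  erw [h2]
  simp only [pre, GU, Iso.trans_hom, Category.assoc]
  rfl

/-- Twisting preserves membership. -/
theorem twK_mem_iff [IsNoetherian S] [IsProper f] (T : Over S) [IsLocallyNoetherian T.left] (K : Subobject (FGA.ET f E T)) :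
    (Coh.IsCoh (cokernel (twK f E L₀ T K).arrow) ∧
      FlatMod.IsFlatOver (PicF.XTproj f T) (cokernel (twK f E L₀ T K).arrow)) ↔
    (Coh.IsCoh (cokernel K.arrow) ∧ FlatMod.IsFlatOver (PicF.XTproj f T) (cokernel K.arrow)) := by
  haveI : IsProper (PicF.XTproj f T) :=
    MorphismProperty.of_isPullback (P := @IsProper) (IsPullback.of_hasPullback f T.hom) inferInstance
  haveI : IsLocallyNoetherian (PicF.XT f T) := LocallyOfFiniteType.isLocallyNoetherian (PicF.XTproj f T)
  obtain ⟨e⟩ := nonempty_cokernel_twK f E hL₀ T K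
  have hM : PicF.IsInvertible (twMod f L₀ T) := PicLoc.isInvertible_pullback _ hL₀
  obtain ⟨D, hD, ⟨i⟩⟩ := M2.exists_inverse hM
  let back : CohB1.tensorMod (cokernel (twK f E L₀ T K).arrow) D ≅ cokernel K.arrow :=
    M2.tensorIso e.symm (Iso.refl D) ≪≫ M2.untwist i _
  constructor
  · rintro ⟨h1, h2⟩
    exact ⟨CohFound.isCoh_of_iso back ((M1.isCoh_iff_isFP _).2 (CMReg18.isFP_tensor_inv (M1.isFP_of_isCoh h1) hD)),
      RelPCS8.isFlatOver_of_iso back (haveI := h1.1; FlatTwist13.isFlatOver_tensor _ h2 hD)⟩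
  · rintro ⟨h1, h2⟩
    exact ⟨CohFound.isCoh_of_iso e ((M1.isCoh_iff_isFP _).2 (CMReg18.isFP_tensor_inv (M1.isFP_of_isCoh h1) hM)),
      RelPCS8.isFlatOver_of_iso e (haveI := h1.1; FlatTwist13.isFlatOver_tensor _ h2 hM)⟩

end Groth.Agent.Quot18
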