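import Groth.Agent.Lib.Quot18.Core
import Groth.Agent.Lib.Quot18.PnGood
import Groth.Agent.Lib.Quot18.ClosedUnit
import Groth.Agent.Lib.Quot18.Twist
import Groth.Agent.Lib.CMReg18.HilbSemi

/-!
# Closed subschemes of projective space: quotients are determined by the direct images
-/

set_option autoImplicit false
set_option linter.style.haveILetI false
set_option backward.isDefEq.respectTransparency false
set_option backward.isDefEq.respectTransparency.types false
set_option maxHeartbeats 1600000

universe u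

open CategoryTheory CategoryTheory.Limits AlgebraicGeometry Scheme.Modules

namespace Groth.Agent.Quot18

open Groth.Agent Groth.Agent.QuotExt3 Groth.Agent.CMReg18 ModLimH13

theorem homEquiv_comp_adj {W Z T : Scheme.{u}} (j : W ⟶ Z) (P : Z ⟶ T) {P' : W ⟶ T} (h : j ≫ P = P') {V : T.Modules}
    {F : W.Modules} (b : (Scheme.Modules.pullback P').obj V ⟶ F) :
    ∃ e : (Scheme.Modules.pushforward P).obj ((Scheme.Modules.pushforward j).obj F) ≅
        (Scheme.Modules.pushforward P').obj F,
      (pullbackPushforwardAdjunction P).homEquiv _ _ ((pullbackPushforwardAdjunction j).homEquiv _ _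
        ((cmp j P h).hom.app V ≫ b)) ≫ e.hom = (pullbackPushforwardAdjunction P').homEquiv _ _ b := by
  subst h
  refine ⟨(pushforwardComp j P).app F, ?_⟩
  have hc : (cmp j P rfl).hom.app V = (pullbackComp j P).hom.app V := Category.comp_id _
  rw [hc]
  let adj₁ := (pullbackPushforwardAdjunction P).comp (pullbackPushforwardAdjunction j)
  let adj₂ := pullbackPushforwardAdjunction (j ≫ P)
  have h2 : b = (pullbackComp j P).inv.app V ≫ (pullbackComp j P).hom.app V ≫ b :=
    (Iso.inv_hom_id_app_assoc _ _ _).symm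
  generalize (pullbackComp j P).hom.app V ≫ b = b₀ at h2 ⊢
  subst h2
  have h1 : (pullbackPushforwardAdjunction P).homEquiv _ _ ((pullbackPushforwardAdjunction j).homEquiv _ _ b₀) =
      adj₁.homEquiv V F b₀ := by
    rw [Adjunction.comp_homEquiv]
    rfl
  refine (congrArg (· ≫ ((pushforwardComp j P).app F).hom) h1).trans ?_
  rw [Adjunction.homEquiv_unit, Adjunction.homEquiv_unit, Category.assoc]
  have h3 := unit_conjugateEquiv adj₁ adj₂ (pullbackComp j P).inv V
  rw [show conjugateEquiv adj₁ adj₂ (pullbackComp j P).inv = (pushforwardComp j P).hom from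
    conjugateEquiv_pullbackComp_inv j P] at h3
  conv_rhs => rw [Functor.map_comp]
  rw [← reassoc_of% h3]
  congr 1

/-- Fibrewise Euler characteristics do not change under a closed immersion. -/
theorem euler_fiber_closedImm {Z Y T : Scheme.{u}} (j : Z ⟶ Y) [IsClosedImmersion j] (P : Y ⟶ T) {f : Z ⟶ T}
    (hjf : j ≫ P = f) {N : Z.Modules} (hN : Coh.IsQCoh N) (s : T) :
    @Curv2.euler (T.residueField s) _ (P.fiber s) ⟨P.fiberToSpecResidueField s⟩
        ((Scheme.Modules.pullback (P.fiberι s)).obj ((Scheme.Modules.pushforward j).obj N)) =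
      @Curv2.euler (T.residueField s) _ (f.fiber s) ⟨f.fiberToSpecResidueField s⟩
        ((Scheme.Modules.pullback (f.fiberι s)).obj N) := by
  subst hjf
  let f := j ≫ P
  letI : (P.fiber s).Over (Spec (CommRingCat.of (T.residueField s))) := ⟨P.fiberToSpecResidueField s⟩
  letI : (f.fiber s).Over (Spec (CommRingCat.of (T.residueField s))) := ⟨f.fiberToSpecResidueField s⟩
  let a : f.fiber s ⟶ P.fiber s := pullback.lift (f.fiberι s ≫ j) (f.fiberToSpecResidueField s)
    (by rw [Category.assoc]; exact f.fiber_fac s)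
  have ha1 : a ≫ P.fiberι s = f.fiberι s ≫ j := pullback.lift_fst _ _ _
  have ha2 : a ≫ P.fiberToSpecResidueField s = f.fiberToSpecResidueField s := pullback.lift_snd _ _ _
  have h : IsPullback (f.fiberι s) a j (P.fiberι s) := by
    refine IsPullback.of_bot ?_ ha1.symm (IsPullback.of_hasPullback P (T.fromSpecResidueField s))
    erw [ha2]
    exact IsPullback.of_hasPullback f (T.fromSpecResidueField s)
  haveI : IsClosedImmersion a := MorphismProperty.of_isPullback (P := @IsClosedImmersion) h inferInstance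
  haveI := hN
  obtain ⟨e⟩ := S0017.result j (P.fiberι s) (f.fiberι s) a h N
  refine (CurveCoh17.euler_iso (k := T.residueField s) e).trans ?_
  exact AmpleFin18.euler_push (k := T.residueField s) a ha2 _ (M1.isQCoh_pullback _ hN)

/-- Twisted Euler characteristics of a direct image. -/
theorem fibChi_closedImm {Z Y T : Scheme.{u}} (j : Z ⟶ Y) [IsClosedImmersion j] (P : Y ⟶ T) {f : Z ⟶ T}
    (hjf : j ≫ P = f) {N : Z.Modules} (hN : Coh.IsQCoh N) {L : Y.Modules} (hL : PicF.IsInvertible L)
    {L' : Z.Modules} (e : (Scheme.Modules.pullback j).obj L ≅ L') (s : T) (x : ℕ) :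
    fibChi P ((Scheme.Modules.pushforward j).obj N) 1 (fun _ => L) s (fun _ => x) =
      fibChi f N 1 (fun _ => L') s (fun _ => x) := by
  letI : (P.fiber s).Over (Spec (CommRingCat.of (T.residueField s))) := ⟨P.fiberToSpecResidueField s⟩
  letI : (f.fiber s).Over (Spec (CommRingCat.of (T.residueField s))) := ⟨f.fiberToSpecResidueField s⟩
  obtain ⟨p⟩ := CohFound.nonempty_push_tensor_iso j N hN (CohB1.tensorPow L x)
    (Twist.isQCoh_of_isInvertible (Amp.isInvertible_tensorPow hL x))
  let i₁ : CohB1.tensorMod N ((Scheme.Modules.pullback j).obj (CohB1.tensorPow L x)) ≅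
      CohB1.tensorMod N (CohB1.tensorPow L' x) :=
    M2.tensorIso (Iso.refl _) (M2.pullTensorPowIso j L x ≪≫ M2.tensorPowIso e x)
  refine (CurveCoh17.euler_iso (k := T.residueField s)
    ((Scheme.Modules.pullback (P.fiberι s)).mapIso p.symm)).trans ?_
  refine (euler_fiber_closedImm j P hjf (M2.isQCoh_tensor hN (M1.isQCoh_pullback j
    (Twist.isQCoh_of_isInvertible (Amp.isInvertible_tensorPow hL x)))) s).trans ?_
  exact CurveCoh17.euler_iso (k := T.residueField s) ((Scheme.Modules.pullback (f.fiberι s)).mapIso i₁)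

theorem imageSubobject_map_congr {W Z : Scheme.{u}} (j : W ⟶ Z) {M M' B : Z.Modules} {b : M ⟶ B} {b' : M' ⟶ B}
    (h : imageSubobject b = imageSubobject b') :
    imageSubobject ((Scheme.Modules.pullback j).map b) = imageSubobject ((Scheme.Modules.pullback j).map b') := by
  haveI := (pullbackPushforwardAdjunction j).leftAdjoint_preservesColimits.{0, 0}
  have key : ∀ {N : Z.Modules} (c : N ⟶ B), imageSubobject ((Scheme.Modules.pullback j).map c) =
      imageSubobject ((Scheme.Modules.pullback j).map (imageSubobject c).arrow) := fun c => by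
    rw [← imageSubobject_epi_comp ((Scheme.Modules.pullback j).map (factorThruImageSubobject c))]
    exact imageSubobject_congr_hom (by rw [← Functor.map_comp, imageSubobject_arrow_comp])
  rw [key b, key b', h]

theorem mk_kernel_comp_iso {C : Type*} [Category C] [Abelian C] {A B B' : C} (s : A ⟶ B) (e : B ≅ B') (s' : A ⟶ B')
    (h : s ≫ e.hom = s') : Subobject.mk (kernel.ι s') = Subobject.mk (kernel.ι s) := by
  subst h
  exact Subobject.mk_eq_mk_of_comm _ _ (kernelCompMono s e.hom) (by simp)

/-- Quotients on a closed subscheme with the given polynomial are determined by their direct images. -/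
theorem exists_closed_good (n p : ℕ) (ν : ℤ) (Φ : Polynomial ℚ) :
    ∃ d₀ : ℤ, ∀ d : ℤ, d₀ ≤ d → 0 ≤ ν + d ∧
      ∀ (S : Scheme.{u}) [IsNoetherian S] (X : Scheme.{u}) (i : X ⟶ CohB1.ProjSpaceOver n S) [IsClosedImmersion i]
        (E' : X.Modules) (q₁ : (Scheme.Modules.pullback i).obj (Tws n p (ν + d) S) ⟶ E') [Epi q₁] (N : ℕ)
        (σ₁ : (Scheme.Modules.pullback (CohB1.ProjSpaceOver.toBase n S)).obj (FlatMod.freeMod S N) ⟶ Tws n p (ν + d) S),
        Epi ((pullbackPushforwardAdjunction (CohB1.ProjSpaceOver.toBase n S)).homEquiv _ _ σ₁) →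
        IsGood (i ≫ CohB1.ProjSpaceOver.toBase n S) ((Scheme.Modules.pullback i).obj (O1 n S)) E'
          (Φ.comp (Polynomial.X + Polynomial.C (d : ℚ)))
          ((pullbackComp i (CohB1.ProjSpaceOver.toBase n S)).inv.app _ ≫ (Scheme.Modules.pullback i).map σ₁ ≫ q₁)
          ⌊Φ.eval (d : ℚ)⌋₊ := by
  obtain ⟨d₀, hd₀⟩ := exists_pn_good.{u} n p ν Φ
  refine ⟨d₀, fun d hd => ⟨(hd₀ d hd).1, fun S _ X i _ E' q₁ _ N σ₁ hσ₁ T hT K hK => ?_⟩⟩
  haveI := hT
  let A := Tws n p (ν + d) S
  let π := CohB1.ProjSpaceOver.toBase n S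
  let f := i ≫ π
  let g := pullback.fst π T.hom
  let g' := pullback.fst f T.hom
  let Pπ := PicF.XTproj π T
  let Pf := PicF.XTproj f T
  let j : PicF.XT f T ⟶ PicF.XT π T := pullback.lift (g' ≫ i) Pf (by
    rw [Category.assoc]; exact pullback.condition)
  have w : j ≫ g = g' ≫ i := pullback.lift_fst _ _ _
  have hjπ : j ≫ Pπ = Pf := pullback.lift_snd _ _ _
  have sqj : IsPullback g' j i g := by
    refine IsPullback.of_bot ?_ w.symm (IsPullback.of_hasPullback π T.hom)
    erw [hjπ]
    exact IsPullback.of_hasPullback f T.hom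
  haveI : IsClosedImmersion j := MorphismProperty.of_isPullback (P := @IsClosedImmersion) sqj inferInstance
  haveI : IsProper Pπ := MorphismProperty.of_isPullback (P := @IsProper) (IsPullback.of_hasPullback π T.hom) inferInstance
  haveI : IsLocallyNoetherian (PicF.XT π T) := LocallyOfFiniteType.isLocallyNoetherian Pπ
  haveI : IsLocallyNoetherian (PicF.XT f T) := LocallyOfFiniteType.isLocallyNoetherian j
  haveI := (pullbackPushforwardAdjunction g').leftAdjoint_preservesColimits.{0, 0}
  haveI := (pullbackPushforwardAdjunction j).leftAdjoint_preservesColimits.{0, 0}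
  haveI := (pullbackPushforwardAdjunction j).left_adjoint_additive
  let F := cokernel K.1.arrow
  let c : FGA.ET f E' T ⟶ F := cokernel.π K.1.arrow
  let τ : (Scheme.Modules.pullback j).obj ((Scheme.Modules.pullback g).obj A) ⟶ FGA.ET f E' T :=
    (cmp j g w).hom.app A ≫ (pullbackComp g' i).inv.app A ≫ (Scheme.Modules.pullback g').map q₁
  haveI : Epi τ := by
    haveI : Epi ((Scheme.Modules.pullback g').map q₁) := inferInstance
    exact epi_comp _ _
  let a := τ ≫ c
  haveI : Epi a := epi_comp _ _
  let adjj := pullbackPushforwardAdjunction j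
  let pF := adjj.homEquiv _ _ a
  have hgA : Coh.IsQCoh ((Scheme.Modules.pullback g).obj A) := M1.isQCoh_pullback g (M1.isFP_isQCoh (isFP_tws n p _ S))
  haveI : Epi pF := by
    haveI := epi_unit_closedImm j _ hgA
    haveI := DirImg11.epi_pushforward_map (f := j) (M1.isQCoh_pullback j hgA) K.2.1.1 a
    show Epi (adjj.homEquiv _ _ a)
    rw [Adjunction.homEquiv_unit]
    exact epi_comp _ _
  let KP : Subobject (FGA.ET π A T) := Subobject.mk (kernel.ι pF)
  let eKP : cokernel KP.arrow ≅ (Scheme.Modules.pushforward j).obj F :=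
    cokernelIsoOfEq (Subobject.underlyingIso_hom_comp_eq_mk (kernel.ι pF)).symm ≪≫ cokernelEpiComp _ _ ≪≫
      IsColimit.coconePointUniqueUpToIso (cokernelIsCokernel _) (Abelian.epiIsCokernelOfKernel _ (kernelIsKernel pF))
  have hcomm : cokernel.π KP.arrow ≫ eKP.hom = pF := by
    simp only [eKP, Iso.trans_hom]
    rw [π_comp_cokernelIsoOfEq_hom_assoc]
    simp only [cokernelEpiComp_hom, cokernel.π_desc_assoc]
    exact IsColimit.comp_coconePointUniqueUpToIso_hom (cokernelIsCokernel (kernel.ι pF))
      (Abelian.epiIsCokernelOfKernel (Fork.ofι (kernel.ι pF) (by simp)) (kernelIsKernel pF)) WalkingParallelPair.one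
  have hKPc : Coh.IsCoh (cokernel KP.arrow) :=
    CohFound.isCoh_of_iso eKP.symm (CohFound.isCoh_push_closedImm j K.2.1)
  have hKPf : FlatMod.IsFlatOver Pπ (cokernel KP.arrow) := by
    refine isFlatOver_congr _ eKP.symm ((isFlatOver_push_iff j Pπ F).2 ?_)
    rw [hjπ]
    exact K.2.2
  let L := (Scheme.Modules.pullback i).obj (O1 n S)
  let eL : (Scheme.Modules.pullback j).obj ((Scheme.Modules.pullback g).obj (O1 n S)) ≅
      (Scheme.Modules.pullback g').obj L :=
    (cmp j g w).app _ ≪≫ ((pullbackComp g' i).app _).symm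
  have hKPhp : ∀ t : T.left, t ∈ hilbLocus Pπ (cokernel KP.arrow)
      ((Scheme.Modules.pullback g).obj (O1 n S)) (Φ.comp (Polynomial.X + Polynomial.C (d : ℚ))) := fun t l => by
    rw [← hK t l]
    refine congrArg (fun z : ℤ => (z : ℚ)) ?_
    refine Eq.trans ?_ (fibChi_closedImm j Pπ hjπ K.2.1.1 (PicLoc.isInvertible_pullback g (isInvertible_O1 n S)) eL t l)
    letI : (Pπ.fiber t).Over (Spec (CommRingCat.of (T.left.residueField t))) := ⟨Pπ.fiberToSpecResidueField t⟩
    exact CurveCoh17.euler_iso (k := T.left.residueField t)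
      ((Scheme.Modules.pullback (Pπ.fiberι t)).mapIso (M2.tensorIso eKP (Iso.refl _)))
  obtain ⟨hs, hr, him⟩ := (hd₀ d hd).2 S N A (𝟙 A) σ₁ hσ₁ T ⟨KP, hKPc, hKPf⟩ hKPhp
  simp only [Category.comp_id] at hs hr him
  let σ := (pullbackComp i π).inv.app (FlatMod.freeMod S N) ≫ (Scheme.Modules.pullback i).map σ₁ ≫ q₁
  let sP := toPush π σ₁ T (cokernel.π KP.arrow)
  let mπ := sqMap T.hom Pπ g pullback.condition.symm σ₁
  let mf := sqMap T.hom Pf g' pullback.condition.symm σ
  have key : (cmp j Pπ hjπ).hom.app ((Scheme.Modules.pullback T.hom).obj (FlatMod.freeMod S N)) ≫ mf =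
      (Scheme.Modules.pullback j).map mπ ≫ τ := by
    let V := FlatMod.freeMod S N
    have wπ : Pπ ≫ T.hom = g ≫ π := pullback.condition.symm
    have wf : Pf ≫ T.hom = g' ≫ f := pullback.condition.symm
    have wj : j ≫ g ≫ π = g' ≫ f := by rw [← Category.assoc, w, Category.assoc]
    have c₁ := cocycle j Pπ T.hom V wπ wj (by rw [hjπ]; exact wf)
    have c₂ := cocycle j g π V (rfl : g ≫ π = g ≫ π) wj (by rw [w, Category.assoc])
    have c₃ := cocycle g' i π V (rfl : i ≫ π = f) (rfl : g' ≫ f = g' ≫ f) (Category.assoc _ _ _)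
    have d₁ := cmp_congr_left hjπ (t := T.hom) (by rw [hjπ]; exact wf) wf V
    have d₂ := cmp_congr_left w (t := π) (by rw [w, Category.assoc]) (Category.assoc g' i π) V
    have e : ∀ {Y Z W' : Scheme.{u}} (r : W' ⟶ Y) (u : Y ⟶ Z) (M : Z.Modules),
        (ModLimH13.cmp r u rfl).hom.app M = (pullbackComp r u).hom.app M := fun r u M => Category.comp_id _
    rw [e, e] at c₃
    rw [e] at c₂
    have hnat : (Scheme.Modules.pullback j).map ((Scheme.Modules.pullback g).map σ₁) ≫ (cmp j g w).hom.app A =
        (cmp j g w).hom.app _ ≫ (Scheme.Modules.pullback (g' ≫ i)).map σ₁ := (cmp j g w).hom.naturality σ₁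
    have hnat' : (Scheme.Modules.pullback (g' ≫ i)).map σ₁ ≫ (pullbackComp g' i).inv.app A =
        (pullbackComp g' i).inv.app _ ≫ (Scheme.Modules.pullback g').map ((Scheme.Modules.pullback i).map σ₁) :=
      (pullbackComp g' i).inv.naturality σ₁
    -- reduce to the identity of comparison maps
    suffices h0 : (cmp j Pπ hjπ).hom.app _ ≫ (cmp Pf T.hom wf).hom.app V ≫ (pullbackComp g' f).inv.app V ≫
          (Scheme.Modules.pullback g').map ((pullbackComp i π).inv.app V) =
        (Scheme.Modules.pullback j).map ((cmp Pπ T.hom wπ).hom.app V) ≫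
          (Scheme.Modules.pullback j).map ((pullbackComp g π).inv.app V) ≫ (cmp j g w).hom.app _ ≫
            (pullbackComp g' i).inv.app _ by
      simp only [mf, mπ, τ, σ, sqMap, Functor.map_comp, Category.assoc]
      rw [reassoc_of% h0, reassoc_of% hnat, reassoc_of% hnat']
    have e₀ : ∀ (M : T.left.Modules), (cmp j Pπ hjπ).hom.app M =
        (pullbackComp j Pπ).hom.app M ≫ (pullbackCongr hjπ).hom.app M := fun M => rfl
    rw [e₀, Category.assoc, reassoc_of% d₁, ← reassoc_of% c₁]
    rw [cancel_epi]
    -- cancel the comparison isomorphisms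
    rw [← cancel_mono ((Scheme.Modules.pullback g').map ((pullbackComp i π).hom.app V)),
      ← cancel_mono ((pullbackComp g' f).hom.app V)]
    simp only [Category.assoc]
    rw [← Functor.map_comp_assoc, Iso.inv_hom_id_app,
      CategoryTheory.Functor.map_id, Category.id_comp, Iso.inv_hom_id_app, c₃, Iso.inv_hom_id_app_assoc]
    rw [← cancel_epi ((Scheme.Modules.pullback j).map ((pullbackComp g π).hom.app V)), Category.comp_id, c₂,
      ← Functor.map_comp_assoc, Iso.hom_inv_id_app, CategoryTheory.Functor.map_id, Category.id_comp]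
    refine Eq.trans ?_ (Category.comp_id _)
    rw [← d₂]
    rfl
  obtain ⟨e, he⟩ := homEquiv_comp_adj j Pπ hjπ (mf ≫ c)
  rw [← Category.assoc, key, Category.assoc, Adjunction.homEquiv_naturality_left] at he
  let eP : (Scheme.Modules.pushforward Pπ).obj (cokernel KP.arrow) ≅ (Scheme.Modules.pushforward Pf).obj F :=
    (Scheme.Modules.pushforward Pπ).mapIso eKP ≪≫ e
  have htp : sP ≫ eP.hom = toPush f σ T c := by
    show (pullbackPushforwardAdjunction Pπ).homEquiv _ _ (mπ ≫ cokernel.π KP.arrow) ≫
      (Scheme.Modules.pushforward Pπ).map eKP.hom ≫ e.hom = _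
    rw [← Category.assoc, ← Adjunction.homEquiv_naturality_right, Category.assoc, hcomm]
    exact he
  haveI : Epi sP := hs
  refine ⟨by rw [← htp]; exact epi_comp _ _, M2.isFinLocFreeOfRank_of_iso eP hr, ?_⟩
  show imageSubobject (rel f σ T (kernel.ι (toPush f σ T c))) = K.1
  rw [imageSubobject_rel_congr f σ (α' := kernel.ι sP)
    (by rw [imageSubobject_mono, imageSubobject_mono]; exact mk_kernel_comp_iso sP eP _ htp)]
  let α := kernel.ι sP
  have hrel : (cmp j Pπ hjπ).hom.app _ ≫ rel f σ T α = (Scheme.Modules.pullback j).map (rel π σ₁ T α) ≫ τ := by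
    rw [rel, rel, Functor.map_comp, Category.assoc, ← Category.assoc, ← (cmp j Pπ hjπ).hom.naturality α,
      Category.assoc]
    exact congrArg (_ ≫ ·) key
  rw [← imageSubobject_epi_comp ((cmp j Pπ hjπ).hom.app _) (rel f σ T α), imageSubobject_congr_hom hrel]
  have hC : (ShortComplex.mk ((Scheme.Modules.pullback j).map (kernel.ι pF)) a (by
      rw [show a = (adjj.homEquiv _ _).symm pF from ((adjj.homEquiv _ _).symm_apply_apply a).symm,
        ← Adjunction.homEquiv_naturality_left_symm, kernel.condition, Adjunction.homEquiv_counit, Functor.map_zero,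
        zero_comp])).Exact := by
    have hC₀ := (ShortComplex.exact_kernel pF).map_of_epi_of_preservesCokernel (Scheme.Modules.pullback j) inferInstance inferInstance
    haveI := CohFound.isIso_counit_closedImm j F K.2.1.1
    refine ShortComplex.exact_of_iso (S₁ := (ShortComplex.mk (kernel.ι pF) pF (kernel.condition pF)).map
      (Scheme.Modules.pullback j)) (ShortComplex.isoMk (Iso.refl _) (Iso.refl _) (asIso (adjj.counit.app F)) ?_ ?_) hC₀
    · simp
    · simp only [Iso.refl_hom, Category.id_comp, ShortComplex.map_g, asIso_hom]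
      exact ((adjj.homEquiv _ _).symm_apply_apply a).symm.trans (Adjunction.homEquiv_counit _ _ _ _)
  rw [ShortComplex.exact_iff_image_eq_kernel] at hC
  have h1 : imageSubobject ((Scheme.Modules.pullback j).map (rel π σ₁ T α)) =
      Subobject.mk (kernel.ι a) := by
    refine Eq.trans ?_ hC
    haveI : Epi ((Scheme.Modules.pullback j).map (factorThruImageSubobject (rel π σ₁ T α))) := inferInstance
    have him' : imageSubobject (rel π σ₁ T α) = imageSubobject (kernel.ι pF) := him.trans (imageSubobject_mono _).symm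
    exact imageSubobject_map_congr _ him'
  rw [imageSubobject_comp_of_eq _ τ (kernel.ι a) h1]
  show imageSubobject (kernel.ι (τ ≫ c) ≫ τ) = K.1
  rw [imageSubobject_kernel_comp, mk_kernel_cokernel]

end Groth.Agent.Quot18
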