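import Groth.Agent.Lib.GExistH7.OpenExt
import Groth.Agent.Lib.IsoNat5.ProperInertia
import Groth.Agent.Lib.FlatH4.ModFlatAt
import Groth.Agent.Lib.FlatTwist13.Main
import Groth.Agent.Lib.ModM1.Coh
import Groth.Agent.Lib.ModLimH13.Flat

/-!
# Extending a quotient flatly over a discrete valuation ring
-/

set_option autoImplicit false
set_option linter.style.haveILetI false
set_option backward.isDefEq.respectTransparency false
set_option maxHeartbeats 800000

universe u

open CategoryTheory CategoryTheory.Limits AlgebraicGeometry TopologicalSpace Scheme.Modules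

namespace Groth.Agent.Quot18

open Groth.Agent

/-- A quotient on the generic fibre extends to a quotient which is flat over the valuation ring. -/
theorem exists_flat_extension (R : Type u) [CommRing R] [IsDomain R] [IsDiscreteValuationRing R]
    (K : Type u) [Field K] [Algebra R K] [IsFractionRing R K] {X XK : Scheme.{u}}
    (π : X ⟶ Spec (CommRingCat.of R)) [IsLocallyNoetherian X] (j : XK ⟶ X) (πK : XK ⟶ Spec (CommRingCat.of K))
    (h : IsPullback j πK π (Spec.map (CommRingCat.ofHom (algebraMap R K)))) {E : X.Modules} (hE : Coh.IsCoh E)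
    {F : XK.Modules} (q : (Scheme.Modules.pullback j).obj E ⟶ F) [Epi q] (hF : Coh.IsQCoh F) :
    ∃ (FR : X.Modules) (p : E ⟶ FR), Epi p ∧ Coh.IsCoh FR ∧ FlatMod.IsFlatOver π FR ∧
      ∃ e : (Scheme.Modules.pullback j).obj FR ≅ F, (Scheme.Modules.pullback j).map p ≫ e.hom = q := by
  haveI := IsoNat5.isOpenImmersion_fractionField R K
  haveI : IsOpenImmersion j := MorphismProperty.of_isPullback h.flip inferInstance
  haveI : IsAffineHom j := MorphismProperty.of_isPullback (P := @IsAffineHom) h.flip inferInstance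
  let adj := pullbackPushforwardAdjunction j
  let u : E ⟶ (Scheme.Modules.pushforward j).obj F := adj.homEquiv _ _ q
  let FR := Limits.image u
  let p : E ⟶ FR := factorThruImage u
  have hJ : Coh.IsQCoh ((Scheme.Modules.pushforward j).obj F) := M1.isQCoh_push j hF
  have hFRq : Coh.IsQCoh FR :=
    M1.isQCoh_of_isIso (Abelian.imageIsoImage u) (M1.isQCoh_kernel hJ (M1.isQCoh_cokernel hE.1 hJ u) _)
  have hFR : Coh.IsCoh FR := ⟨hFRq, M1.isFT_of_epi p hE.2⟩
  refine ⟨FR, p, inferInstance, hFR, ?_, ?_⟩
  · intro x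
    obtain ⟨W, hW, hxW, -⟩ := exists_isAffineOpen_mem_and_subset (X := X) (x := x) (U := ⊤) trivial
    have e : W ≤ π ⁻¹ᵁ ⊤ := le_top
    haveI := hFRq
    rw [FlatH4.isFlatOverAt_iff π FR ⊤ (isAffineOpen_top _) W hW e hxW]
    letI := (π.appLE ⊤ W e).hom.toAlgebra
    letI := FlatH4.secModuleOver π FR ⊤ W e
    haveI : IsScalarTower Γ(Spec (CommRingCat.of R), ⊤) Γ(X, W) Γ(FR, W) :=
      IsScalarTower.of_algebraMap_smul fun _ _ => rfl
    let ρ := (Scheme.ΓSpecIso (CommRingCat.of R)).commRingCatIsoToRingEquiv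
    haveI : IsDomain Γ(Spec (CommRingCat.of R), ⊤) := MulEquiv.isDomain R ρ.toMulEquiv
    haveI : IsPrincipalIdealRing Γ(Spec (CommRingCat.of R), ⊤) :=
      IsPrincipalIdealRing.of_surjective ρ.symm.toRingHom ρ.symm.surjective
    haveI : Module.IsTorsionFree Γ(Spec (CommRingCat.of R), ⊤) Γ(FR, W) := by
      refine .of_smul_eq_zero fun a m ham => or_iff_not_imp_left.2 fun ha => ?_
      have hinj : Function.Injective ((Limits.image.ι u).app W) :=
        M1.app_injective _ W
      refine hinj ?_
      rw [map_zero]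
      change π.appLE ⊤ W e a • m = 0 at ham
      have h1 := congrArg ((Limits.image.ι u).app W) ham
      rw [Scheme.Modules.Hom.app_smul, map_zero] at h1
      change j.app W (π.appLE ⊤ W e a) • (show Γ(F, j ⁻¹ᵁ W) from (Limits.image.ι u).app W m) = 0 at h1
      have hu : IsUnit (j.app W (π.appLE ⊤ W e a)) := by
        let ι₀ := Spec.map (CommRingCat.ofHom (algebraMap R K))
        have hb : IsUnit (ι₀.appTop a) := by
          have hne : algebraMap R K ((Scheme.ΓSpecIso (CommRingCat.of R)).hom a) ≠ 0 :=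
            (map_ne_zero_iff _ (IsFractionRing.injective R K)).2 fun h0 =>
              ha (ρ.injective (h0.trans (map_zero ρ).symm))
          have := (isUnit_iff_ne_zero.2 hne).map (Scheme.ΓSpecIso (CommRingCat.of K)).inv.hom
          convert this using 1
          exact (ConcreteCategory.congr_hom (Scheme.ΓSpecIso_inv_naturality (CommRingCat.ofHom (algebraMap R K)))
            ((Scheme.ΓSpecIso (CommRingCat.of R)).hom a)).symm ▸ by simp [ι₀]
        have h2 : j.app W (π.appLE ⊤ W e a) =
            πK.appLE ⊤ (j ⁻¹ᵁ W) le_top (ι₀.appTop a) := by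
          have e1 : π.appLE ⊤ W e ≫ j.app W = ι₀.appTop ≫ πK.appLE ⊤ (j ⁻¹ᵁ W) le_top := by
            rw [Scheme.Hom.app_eq_appLE, Scheme.Hom.appLE_comp_appLE, Scheme.Hom.appTop, Scheme.Hom.app_eq_appLE]
            refine Eq.trans ?_ (Scheme.Hom.appLE_comp_appLE πK ι₀ ⊤ ⊤ (j ⁻¹ᵁ W) le_top le_top).symm
            simp only [h.w]
            rfl
          exact ConcreteCategory.congr_hom e1 a
        rw [h2]
        exact hb.map _
      obtain ⟨v, hv⟩ := hu
      rw [← hv] at h1
      exact (v.isUnit.smul_eq_zero (x := (show Γ(F, j ⁻¹ᵁ W) from (Limits.image.ι u).app W m))).1 h1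
    haveI : Module.Flat Γ(Spec (CommRingCat.of R), ⊤) Γ(FR, W) := inferInstance
    exact FlatTwist13.flat_localized_of_flat' _
  · haveI : IsIso (adj.counit.app F) := GExistH7.isIso_counit_open j F
    let θ : (Scheme.Modules.pullback j).obj FR ⟶ F :=
      (Scheme.Modules.pullback j).map (Limits.image.ι u) ≫ adj.counit.app F
    have hθ : (Scheme.Modules.pullback j).map p ≫ θ = q := by
      rw [← Category.assoc, ← Functor.map_comp, Limits.image.fac, ← Adjunction.homEquiv_counit]
      exact Equiv.symm_apply_apply _ q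
    haveI : Mono ((Scheme.Modules.pullback j).map (Limits.image.ι u)) := ModLimH13.mono_pullback_map_of_flat j _
    haveI : Epi θ := by
      haveI : Epi ((Scheme.Modules.pullback j).map p ≫ θ) := hθ ▸ ‹Epi q›
      exact epi_of_epi ((Scheme.Modules.pullback j).map p) θ
    haveI : IsIso θ := isIso_of_mono_of_epi θ
    exact ⟨asIso θ, hθ⟩

end Groth.Agent.Quot18
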