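import Groth.Agent.Lib.Quot18.Sig
import Groth.Agent.Lib.Quot18.Extend
import Groth.Agent.Lib.Quot18.GrExists
import Groth.Agent.Lib.CMReg18.FlatStratum
import Groth.Agent.Lib.QuotExt3.Pull
import Groth.Agent.Lib.PairIso.Tilde
import Groth.Agent.Lib.HTop26.DVRLift
import Groth.Agent.Lib.LocImm12.Basic

/-!
# The Quot scheme of quotients determined by their direct images
-/

set_option autoImplicit false
set_option linter.style.haveILetI false
set_option backward.isDefEq.respectTransparency false
set_option backward.isDefEq.respectTransparency.types false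
set_option maxHeartbeats 1600000

universe u

open CategoryTheory CategoryTheory.Limits AlgebraicGeometry Scheme.Modules

namespace Groth.Agent.Quot18

open Groth.Agent Groth.Agent.CMReg18 Groth.Agent.QuotExt3

variable {X S : Scheme.{u}} (f : X ⟶ S) (L E : X.Modules) (Φ : Polynomial ℚ)

/-- The quotient by `K` has Hilbert polynomial `Φ` on every fibre. -/
def HP (T : Over S) (K : Subobject (FGA.ET f E T)) : Prop :=
  ∀ t : T.left, t ∈ hilbLocus (PicF.XTproj f T) (cokernel K.arrow)
    ((Scheme.Modules.pullback (pullback.fst f T.hom)).obj L) Φ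

/-- The quotients with the given polynomial are recovered from their direct images. -/
def IsGood {N : ℕ} (σ : (Scheme.Modules.pullback f).obj (FlatMod.freeMod S N) ⟶ E) (r : ℕ) : Prop :=
  ∀ (T : Over S), IsLocallyNoetherian T.left → ∀ K : FGA.QuotSet f E T, HP f L E Φ T K.1 →
    Epi (toPush f σ T (cokernel.π K.1.arrow)) ∧
    FlatMod.IsFinLocFreeOfRank r ((Scheme.Modules.pushforward (PicF.XTproj f T)).obj (cokernel K.1.arrow)) ∧
    imageSubobject (rel f σ T (kernel.ι (toPush f σ T (cokernel.π K.1.arrow)))) = K.1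

variable {f L E Φ}

/-- Flatness and the Hilbert polynomial after pullback are a condition on the classifying map. -/
theorem hasFlatHilb_iff [IsProper f] (hL : PicF.IsInvertible L) {T U : Over S} (g : T ⟶ U) (K : Subobject (FGA.ET f E U))
    (hK : CohB1.IsFP (cokernel K.arrow)) :
    HasFlatHilb (PicF.XTproj f U) (cokernel K.arrow) ((Scheme.Modules.pullback (pullback.fst f U.hom)).obj L) Φ T.left g.left ↔
      FlatMod.IsFlatOver (PicF.XTproj f T) (cokernel (FGA.quotPull f E g K).arrow) ∧
        HP f L E Φ T (FGA.quotPull f E g K) := by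
  have sq := HilbBC25.isPullback_XTmap f g
  haveI : IsProper (PicF.XTproj f U) :=
    MorphismProperty.of_isPullback (P := @IsProper) (IsPullback.of_hasPullback f U.hom) inferInstance
  obtain ⟨e⟩ := nonempty_cokernel_pull (PicF.XTmap f g) K.arrow (FGA.ETiso f E g).hom
  have hLi := PicLoc.isInvertible_pullback (pullback.fst f U.hom) hL
  refine and_congr ?_ (forall_congr' fun t => ?_)
  · rw [← isFlatOver_isPullback_iff (M1.isFP_isQCoh hK) sq]
    exact ⟨isFlatOver_congr _ e, isFlatOver_congr _ e.symm⟩
  · refine forall_congr' fun l => ?_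
    have h : fibChi (PicF.XTproj f T) (cokernel (FGA.quotPull f E g K).arrow) 1
        (fun _ => (Scheme.Modules.pullback (pullback.fst f T.hom)).obj L) t (fun _ => l) =
      fibChi (PicF.XTproj f U) (cokernel K.arrow) 1
        (fun _ => (Scheme.Modules.pullback (pullback.fst f U.hom)).obj L) (g.left t) (fun _ => l) := by
      refine Eq.trans ?_ (euler_fiber_isPullback sq (isFP_tensorPows hK 1 _ (fun _ => hLi) (fun _ => l)) t)
      letI : ((PicF.XTproj f T).fiber t).Over (Spec (CommRingCat.of (T.left.residueField t))) :=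
        ⟨(PicF.XTproj f T).fiberToSpecResidueField t⟩
      exact (CurveCoh17.euler_iso (k := T.left.residueField t)
        ((Scheme.Modules.pullback ((PicF.XTproj f T).fiberι t)).mapIso
          (pullTwist (PicF.XTmap f g) (cokernel K.arrow) _ l ≪≫
            M2.tensorIso e (M2.tensorPowIso ((pullbackComp _ _).app L ≪≫
              (pullbackCongr (FGA.XTmap_fst f g)).app L) l)))).symm
    rw [h]

theorem arrow_comp_cokernel_π_of_eq {C : Type*} [Category C] [Abelian C] {Z : C} {K K' : Subobject Z}
    (h : K = K') : K.arrow ≫ cokernel.π K'.arrow = 0 := by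
  subst h
  exact cokernel.condition _

/-- The image of a pulled back kernel is the kernel of the pulled back quotient. -/
theorem imageSubobject_move {T U : Over S} (g : T ⟶ U) {V : S.Modules} {Q : U.left.Modules}
    (q : (Scheme.Modules.pullback U.hom).obj V ⟶ Q) [Epi q] {L' : T.left.Modules}
    (s : (Scheme.Modules.pullback T.hom).obj V ⟶ L') (e : (Scheme.Modules.pullback g.left).obj Q ≅ L')
    (he : Grass.quotBC (Over.w g) q ≫ e.hom = s) :
    imageSubobject (move g (kernel.ι q)) = Subobject.mk (kernel.ι s) := by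
  subst he
  haveI := (pullbackPushforwardAdjunction g.left).leftAdjoint_preservesColimits.{0, 0}
  haveI := (pullbackPushforwardAdjunction g.left).left_adjoint_additive
  let C := ShortComplex.mk ((Scheme.Modules.pullback g.left).map (kernel.ι q)) ((Scheme.Modules.pullback g.left).map q)
    (by rw [← Functor.map_comp, kernel.condition, Functor.map_zero])
  have hC : C.Exact :=
    (ShortComplex.exact_kernel q).map_of_epi_of_preservesCokernel (Scheme.Modules.pullback g.left) inferInstance inferInstance
  have hq : Grass.quotBC (Over.w g) q = (ModLimH13.cmp g.left U.hom (Over.w g)).inv.app V ≫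
      (Scheme.Modules.pullback g.left).map q := by
    simp [Grass.quotBC, ModLimH13.cmp]
  let C' := ShortComplex.mk (move g (kernel.ι q)) (Grass.quotBC (Over.w g) q ≫ e.hom)
    (by rw [hq, move]; simp [← Functor.map_comp_assoc])
  have hC' : C'.Exact := by
    refine ShortComplex.exact_of_iso (S₁ := C) (S₂ := C')
      (ShortComplex.isoMk (Iso.refl _) ((ModLimH13.cmp g.left U.hom (Over.w g)).app V) e ?_ ?_) hC
    · simp [C, C', move]
    · simp [C, C', hq]
  rw [C'.exact_iff_image_eq_kernel] at hC'
  exact hC'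

theorem exists_quotScheme [IsNoetherian S] [IsProper f] (hL : RelAmple.IsRelAmple f L) (hE : Coh.IsCoh E)
    {N r : ℕ} (hr : r ≤ N) (σ : (Scheme.Modules.pullback f).obj (FlatMod.freeMod S N) ⟶ E)
    (good : IsGood f L E Φ σ r) :
    ∃ (Q : Over S) (K : FGA.QuotSet f E Q), IsLocallyNoetherian Q.left ∧ HP f L E Φ Q K.1 ∧
      (∀ (T : Over S) [IsLocallyNoetherian T.left] (K' : FGA.QuotSet f E T), HP f L E Φ T K'.1 →
        ∃! g : T ⟶ Q, FGA.quotPull f E g K.1 = K'.1) ∧
      ∃ (m : ℕ) (c : Q.left ⟶ CohB1.ProjSpaceOver m S),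
        IsClosedImmersion c ∧ c ≫ CohB1.ProjSpaceOver.toBase m S = Q.hom := by
  obtain ⟨G, π, Qg, q, hG, m, c, hc, hcπ⟩ := GrC.exists_isGrass_free S hr
  haveI := hc
  haveI := hG.epi
  haveI : IsProper π := by rw [← hcπ]; infer_instance
  haveI : IsNoetherian S := inferInstance
  haveI : IsLocallyNoetherian G := LocallyOfFiniteType.isLocallyNoetherian π
  haveI : CompactSpace G := QuasiCompact.compactSpace_of_compactSpace π
  haveI : IsNoetherian G := { }
  let GT : Over S := Over.mk π
  haveI : IsLocallyNoetherian GT.left := inferInstanceAs (IsLocallyNoetherian G)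
  let fG := PicF.XTproj f GT
  have sqG : IsPullback (pullback.fst f π) fG f π := IsPullback.of_hasPullback f π
  haveI : IsProper fG := MorphismProperty.of_isPullback (P := @IsProper) sqG inferInstance
  haveI : LocallyOfFinitePresentation f := LocImm12.locallyOfFinitePresentation_of_locallyOfFiniteType f
  haveI : LocallyOfFinitePresentation fG := LocImm12.locallyOfFinitePresentation_of_locallyOfFiniteType fG
  haveI : IsLocallyNoetherian (PicF.XT f GT) := LocallyOfFiniteType.isLocallyNoetherian fG
  let K₀ := imageSubobject (rel f σ GT (kernel.ι q))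
  have hF₀ : Coh.IsCoh (cokernel K₀.arrow) := by
    obtain ⟨e⟩ := nonempty_cokernel_rel f σ (T := GT) (kernel.ι q)
    have hq : Coh.IsQCoh (kernel q) := M1.isQCoh_kernel
      (M1.isQCoh_pullback π (CurveCoh17.isCoh_of_ofRank (M2.isFinLocFreeOfRank_freeMod S N)).1)
      (CurveCoh17.isCoh_of_ofRank hG.rank).1 q
    exact CohFound.isCoh_of_iso e (M1.isCoh_cokernel (M1.isQCoh_pullback _ hq) (M1.isCoh_pullback _ hE) _)
  have hF₀p : CohB1.IsFP (cokernel K₀.arrow) := M1.isFP_of_isCoh hF₀
  have hLi := RA.isInvertible_of_isRelAmple f hL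
  obtain ⟨W, i, hi, hiq, hif, hrange, huniv⟩ := exists_flatteningStratum fG
    (RA.isRelAmple_of_isPullback sqG hL : RelAmple.IsRelAmple fG ((Scheme.Modules.pullback (pullback.fst f π)).obj L))
    hF₀p Φ
  haveI := hi
  haveI := hiq
  let QW : Over S := Over.mk (i ≫ π)
  let gi : QW ⟶ GT := Over.homMk i rfl
  haveI : LocallyOfFiniteType i := inferInstance
  haveI hWn : IsLocallyNoetherian QW.left := LocallyOfFiniteType.isLocallyNoetherian i
  have hW := (hasFlatHilb_iff (Φ := Φ) hLi gi K₀ hF₀p).1 ((huniv W i).1 ⟨𝟙 _, Category.id_comp _⟩)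
  let KW : FGA.QuotSet f E QW := ⟨FGA.quotPull f E gi K₀, by
    obtain ⟨e⟩ := nonempty_cokernel_pull (PicF.XTmap f gi) K₀.arrow (FGA.ETiso f E gi).hom
    exact CohFound.isCoh_of_iso e (M1.isCoh_pullback _ hF₀), hW.1⟩
  -- classifying maps to the Grassmannian
  have classify : ∀ (T : Over S), IsLocallyNoetherian T.left → ∀ K' : FGA.QuotSet f E T, HP f L E Φ T K'.1 →
      ∃ g : T ⟶ GT, FGA.quotPull f E g K₀ = K'.1 ∧ ∀ g' : T ⟶ GT, FGA.quotPull f E g' K₀ = K'.1 → g' = g := by
    intro T hT K' hK'
    obtain ⟨hs, hrk, him⟩ := good T hT K' hK'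
    let s := toPush f σ T (cokernel.π K'.1.arrow)
    haveI : Epi s := hs
    let g : T ⟶ GT := Over.homMk (hG.lift T.hom _ hrk s hs) (hG.lift_comp _ _ _ _ _)
    have hg : imageSubobject (move g (kernel.ι q)) = Subobject.mk (kernel.ι s) :=
      imageSubobject_move g q s (hG.liftIso T.hom _ hrk s hs) (hG.quotBC_liftIso T.hom _ hrk s hs)
    refine ⟨g, ?_, fun g' hg' => ?_⟩
    · rw [quotPull_rel, imageSubobject_rel_congr f σ (α' := kernel.ι s) (hg.trans (imageSubobject_mono _).symm)]
      exact him
    · apply Over.OverMorphism.ext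
      rw [quotPull_rel] at hg'
      have h0 : move g' (kernel.ι q) ≫ s = 0 := by
        rw [comp_toPush_eq_zero_iff, ← imageSubobject_arrow_comp (rel f σ T (move g' (kernel.ι q))), Category.assoc]
        have : (imageSubobject (rel f σ T (move g' (kernel.ι q)))).arrow ≫ cokernel.π K'.1.arrow = 0 :=
          arrow_comp_cokernel_π_of_eq hg'
        rw [this, comp_zero]
      haveI := (pullbackPushforwardAdjunction g'.left).leftAdjoint_preservesColimits.{0, 0}
      haveI := (pullbackPushforwardAdjunction g'.left).left_adjoint_additive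
      let s' := Grass.quotBC (Over.w g') q
      haveI : Epi s' :=
        haveI := Grass.epi_pullback_map g'.left q
        inferInstanceAs (Epi ((Scheme.Modules.pullbackCongr (Over.w g')).inv.app (FlatMod.freeMod S N) ≫
          (Scheme.Modules.pullbackComp g'.left π).inv.app _ ≫ (Scheme.Modules.pullback g'.left).map q))
      have hex : (ShortComplex.mk ((Scheme.Modules.pullback g'.left).map (kernel.ι q)) ((Scheme.Modules.pullback g'.left).map q)
          (by rw [← Functor.map_comp, kernel.condition, Functor.map_zero])).Exact :=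
        (ShortComplex.exact_kernel q).map_of_epi_of_preservesCokernel (Scheme.Modules.pullback g'.left) inferInstance inferInstance
      haveI : Epi ((Scheme.Modules.pullback g'.left).map q) := inferInstance
      obtain ⟨l, hl⟩ := CokernelCofork.IsColimit.desc' hex.gIsCokernel
        ((ModLimH13.cmp g'.left π (Over.w g')).hom.app (FlatMod.freeMod S N) ≫ s) (by
          rw [← Category.assoc]; exact h0)
      change (Scheme.Modules.pullback g'.left).map q ≫ l = _ at hl
      have hsl : s' ≫ l = s := by
        have e : s' = (ModLimH13.cmp g'.left π (Over.w g')).inv.app (FlatMod.freeMod S N) ≫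
            (Scheme.Modules.pullback g'.left).map q := by
          simp [s', Grass.quotBC, ModLimH13.cmp, GT]
        rw [e, Category.assoc, hl, Iso.inv_hom_id_app_assoc]
      haveI : Epi l := by
        haveI : Epi (s' ≫ l) := by rw [hsl]; infer_instance
        exact epi_of_epi s' l
      haveI := PairIso.isIso_of_epi_rank (M2.isFinLocFreeOfRank_pullback g'.left hG.rank) hrk l
      exact hG.lift_unique T.hom _ hrk s hs g'.left (Over.w g') (asIso l) hsl
  -- the range is closed
  have hclosed : IsClosed (Set.range i) := by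
    refine isClosed_of_closure_subset fun g₀ hg₀ => ?_
    obtain ⟨w, hw⟩ := H12.exists_specializes_of_mem_closure_range i g₀ hg₀
    by_cases hne : g₀ = i w
    · exact ⟨w, hne.symm⟩
    obtain ⟨R, hRd, hR, μ, hμg, hμc⟩ := HTop26.exists_dvr_of_specializes (P := G) hw hne
    haveI := hRd
    haveI := hR
    let Kf : Type u := FractionRing R
    let T : Over S := Over.mk (μ ≫ π)
    let η : Spec (CommRingCat.of Kf) ⟶ Spec R := Spec.map (CommRingCat.ofHom (algebraMap R Kf))
    let TK : Over S := Over.mk (η ≫ μ ≫ π)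
    let jK : TK ⟶ T := Over.homMk η rfl
    let μ' : T ⟶ GT := Over.homMk μ rfl
    haveI : IsLocallyNoetherian T.left := inferInstanceAs (IsLocallyNoetherian (Spec R))
    haveI : IsLocallyNoetherian TK.left := inferInstanceAs (IsLocallyNoetherian (Spec (CommRingCat.of Kf)))
    have hη : ∀ z, η z = HTop26.gen R := fun z => by
      apply PrimeSpectrum.ext
      change Ideal.comap (algebraMap R Kf) z.asIdeal = ⊥
      rw [(Ideal.eq_bot_or_top z.asIdeal).resolve_right z.2.ne_top, ← RingHom.ker_eq_comap_bot]
      exact (RingHom.injective_iff_ker_eq_bot _).1 (IsFractionRing.injective R Kf)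
    have hgen : HasFlatHilb fG (cokernel K₀.arrow) ((Scheme.Modules.pullback (pullback.fst f π)).obj L) Φ TK.left
        (jK ≫ μ').left := by
      refine ⟨NumPoly18.isFlatOver_field _ _, fun z => ?_⟩
      rw [← hrange]
      refine ⟨w, ?_⟩
      show i w = μ (η z)
      rw [hη z, hμg]
    obtain ⟨hKflat, hKhp⟩ := (hasFlatHilb_iff (Φ := Φ) hLi (jK ≫ μ') K₀ hF₀p).1 hgen
    let KK := FGA.quotPull f E (jK ≫ μ') K₀
    haveI : IsProper (PicF.XTproj f T) :=
      MorphismProperty.of_isPullback (P := @IsProper) (IsPullback.of_hasPullback f T.hom) inferInstance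
    haveI : LocallyOfFinitePresentation (PicF.XTproj f T) :=
      LocImm12.locallyOfFinitePresentation_of_locallyOfFiniteType _
    haveI : IsLocallyNoetherian (PicF.XT f T) := LocallyOfFiniteType.isLocallyNoetherian (PicF.XTproj f T)
    have hKKc : Coh.IsCoh (cokernel KK.arrow) := by
      obtain ⟨e⟩ := nonempty_cokernel_pull (PicF.XTmap f (jK ≫ μ')) K₀.arrow (FGA.ETiso f E (jK ≫ μ')).hom
      exact CohFound.isCoh_of_iso e (M1.isCoh_pullback _ hF₀)
    obtain ⟨FR, p, hp, hFR, hFRflat, e, he⟩ := exists_flat_extension R Kf (PicF.XTproj f T) (PicF.XTmap f jK)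
      (PicF.XTproj f TK) (HilbBC25.isPullback_XTmap f jK) (M1.isCoh_pullback (pullback.fst f T.hom) hE)
      ((FGA.ETiso f E jK).hom ≫ cokernel.π KK.arrow) hKKc.1
    haveI := hp
    let K' : Subobject (FGA.ET f E T) := Subobject.mk (kernel.ι p)
    let eK' : cokernel K'.arrow ≅ FR :=
      cokernelIsoOfEq (Subobject.underlyingIso_hom_comp_eq_mk (kernel.ι p)).symm ≪≫ cokernelEpiComp _ _ ≪≫
        IsColimit.coconePointUniqueUpToIso (cokernelIsCokernel _) (Abelian.epiIsCokernelOfKernel _ (kernelIsKernel p))
    have hpull : FGA.quotPull f E jK K' = KK := by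
      haveI := (pullbackPushforwardAdjunction (PicF.XTmap f jK)).leftAdjoint_preservesColimits.{0, 0}
      haveI := (pullbackPushforwardAdjunction (PicF.XTmap f jK)).left_adjoint_additive
      have hC := (ShortComplex.exact_kernel p).map_of_epi_of_preservesCokernel
        (Scheme.Modules.pullback (PicF.XTmap f jK)) inferInstance inferInstance
      let C' := ShortComplex.mk
        ((Scheme.Modules.pullback (PicF.XTmap f jK)).map (kernel.ι p) ≫ (FGA.ETiso f E jK).hom)
        (cokernel.π KK.arrow) (by
          rw [Category.assoc, ← he, ← Functor.map_comp_assoc, kernel.condition, Functor.map_zero, zero_comp])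
      have hC' : C'.Exact := by
        refine ShortComplex.exact_of_iso (S₁ := (ShortComplex.mk (kernel.ι p) p (kernel.condition p)).map
          (Scheme.Modules.pullback (PicF.XTmap f jK))) (S₂ := C')
          (ShortComplex.isoMk (Iso.refl _) (FGA.ETiso f E jK) e ?_ ?_) hC
        · simp [C']
        · simpa [C'] using he.symm
      rw [C'.exact_iff_image_eq_kernel] at hC'
      haveI : Epi ((Scheme.Modules.pullback (PicF.XTmap f jK)).map (Subobject.underlyingIso (kernel.ι p)).hom) := inferInstance
      refine Eq.trans ?_ (hC'.trans (mk_kernel_cokernel KK))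
      rw [← QuotExt3.imageSubobject_epi_comp ((Scheme.Modules.pullback (PicF.XTmap f jK)).map
        (Subobject.underlyingIso (kernel.ι p)).hom), ← Functor.map_comp_assoc,
        Subobject.underlyingIso_hom_comp_eq_mk]
      rfl
    have hK'c : Coh.IsCoh (cokernel K'.arrow) := CohFound.isCoh_of_iso eK'.symm hFR
    have hK'f : FlatMod.IsFlatOver (PicF.XTproj f T) (cokernel K'.arrow) :=
      isFlatOver_congr _ eK'.symm hFRflat
    have hK'hp : HP f L E Φ T K' := by
      have h2 := ((hasFlatHilb_iff (Φ := Φ) hLi jK K' (M1.isFP_of_isCoh hK'c)).2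
        ⟨by rw [hpull]; exact hKflat, by rw [hpull]; exact hKhp⟩).2
      have hg : HTop26.gen R ∈ hilbLocus (PicF.XTproj f T) (cokernel K'.arrow)
          ((Scheme.Modules.pullback (pullback.fst f T.hom)).obj L) Φ := by
        obtain ⟨z⟩ : Nonempty (Spec (CommRingCat.of Kf)) := inferInstanceAs (Nonempty (PrimeSpectrum Kf))
        rw [← hη z]
        exact h2 z
      intro t
      rcases HTop26.eq_gen_or_closed (R := R) t with rfl | rfl
      · exact hg
      · obtain ⟨O, hO, hO'⟩ := exists_nhd_fibChi_eq (PicF.XTproj f T) (M1.isFP_of_isCoh hK'c) hK'f 1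
          (fun _ => (Scheme.Modules.pullback (pullback.fst f T.hom)).obj L)
          (fun _ => PicLoc.isInvertible_pullback _ hLi) (IsLocalRing.closedPoint R)
        have hgO : HTop26.gen R ∈ O := (HTop26.gen_specializes (IsLocalRing.closedPoint R)).mem_open O.2 hO
        intro l
        rw [← hO' _ hgO]
        exact hg l
    obtain ⟨g₁, hg₁, hu₁⟩ := classify T inferInstance ⟨K', hK'c, hK'f⟩ hK'hp
    have heq : jK ≫ μ' = jK ≫ g₁ := by
      obtain ⟨g₂, hg₂, hu₂⟩ := classify TK inferInstance ⟨KK, hKKc, hKflat⟩ hKhp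
      rw [hu₂ (jK ≫ μ') rfl, hu₂ (jK ≫ g₁) (by rw [quotPull_comp, hg₁]; exact hpull)]
    haveI : IsDominant η := ⟨show ∀ x, x ∈ closure (Set.range η) from fun x => by
      obtain ⟨z⟩ : Nonempty (Spec (CommRingCat.of Kf)) := inferInstanceAs (Nonempty (PrimeSpectrum Kf))
      refine closure_mono (s := {HTop26.gen R}) ?_ (HTop26.gen_specializes x).mem_closure
      rintro y rfl
      exact ⟨z, hη z⟩⟩
    have hμ : μ = g₁.left := ext_of_isDominant_of_isSeparated π (Over.w g₁).symm η (congrArg CommaMorphism.left heq)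
    have hflat := (hasFlatHilb_iff (Φ := Φ) hLi g₁ K₀ hF₀p).2 ⟨by rw [hg₁]; exact hK'f, by rw [hg₁]; exact hK'hp⟩
    obtain ⟨l, hl⟩ := (huniv _ g₁.left).2 hflat
    refine ⟨l (IsLocalRing.closedPoint R), ?_⟩
    show i (l _) = g₀
    rw [← Scheme.Hom.comp_apply, hl, ← hμ]
    exact hμc
  haveI : IsClosedImmersion i := IsClosedImmersion.of_isPreimmersion i hclosed
  refine ⟨QW, KW, hWn, hW.2, fun T _ K' hK' => ?_, m, i ≫ c, inferInstance, ?_⟩
  · obtain ⟨g, hg, hu⟩ := classify T inferInstance K' hK'
    obtain ⟨l, hl⟩ := (huniv _ g.left).2 ((hasFlatHilb_iff (Φ := Φ) hLi g K₀ hF₀p).2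
      ⟨by rw [hg]; exact K'.2.2, by rw [hg]; exact hK'⟩)
    have hlπ : l ≫ QW.hom = T.hom := by
      show l ≫ i ≫ π = T.hom
      rw [reassoc_of% hl]
      exact Over.w g
    refine ⟨Over.homMk l hlπ, ?_, fun g' hg' => ?_⟩
    · show FGA.quotPull f E _ (FGA.quotPull f E gi K₀) = K'.1
      rw [← quotPull_comp, ← hg]
      congr 1
      exact Over.OverMorphism.ext hl
    · apply Over.OverMorphism.ext
      rw [← cancel_mono i]
      have h := hu (g' ≫ gi) (by rw [quotPull_comp]; exact hg')
      exact (congrArg CommaMorphism.left h).trans hl.symm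
  · show (i ≫ c) ≫ CohB1.ProjSpaceOver.toBase m S = i ≫ π
    rw [Category.assoc, hcπ]

end Groth.Agent.Quot18
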