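import Groth.Agent.Lib.CMReg18.HilbPn
import Groth.Agent.Lib.CMReg18.Bounded
import Groth.Agent.Lib.CMReg18.FibHilb
import Groth.Prelude.Def_FGA

/-!
# Hilbert polynomials of fibres on a closed subscheme of projective space
-/

set_option autoImplicit false
set_option linter.style.haveILetI false
set_option backward.isDefEq.respectTransparency false
set_option backward.isDefEq.respectTransparency.types false
set_option maxHeartbeats 1600000

universe u

open CategoryTheory CategoryTheory.Limits AlgebraicGeometry Scheme.Modules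

namespace Groth.Agent.Quot18

open Groth.Agent Groth.Agent.CMReg18

variable {n : ℕ} {S X : Scheme.{u}} (i : X ⟶ CohB1.ProjSpaceOver n S) [IsClosedImmersion i]

local notation "f₀" => i ≫ CohB1.ProjSpaceOver.toBase n S

/-- The pullback of `O(m)`. -/
noncomputable abbrev tX (m : ℤ) (T : Over S) : (PicF.XT f₀ T).Modules :=
  FGA.ET f₀ ((Scheme.Modules.pullback i).obj (_root_.Twist.twistOver n S m)) T

/-- The Euler characteristic of a twisted fibre. -/
noncomputable abbrev chiX (T : Over S) (F : (PicF.XT f₀ T).Modules) (t : T.left) (m : ℤ) : ℤ :=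
  FGA.eulerCharLE (T.left.residueField t) (FGA.fibreAt f₀ T t).left
    (CohB1.tensorMod (FGA.restrFibre f₀ T t F) (FGA.restrFibre f₀ T t (tX i m T))) n

theorem exists_fibre_poly (T : Over S) {F : (PicF.XT f₀ T).Modules} (hF : Coh.IsCoh F) (t : T.left) :
    ∃ P : Polynomial ℚ, (∀ m : ℤ, (chiX i T F t m : ℚ) = P.eval (m : ℚ)) ∧
      ∀ (d : ℤ) (l : ℕ), (fibChi (PicF.XTproj f₀ T) (CohB1.tensorMod F (tX i d T)) 1
        (fun _ => (Scheme.Modules.pullback (pullback.fst f₀ T.hom)).obj ((Scheme.Modules.pullback i).obj (O1 n S))) t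
        (fun _ => l) : ℚ) = P.eval ((d : ℚ) + (l : ℚ)) := by
  let Pf := PicF.XTproj f₀ T
  let g' := pullback.fst f₀ T.hom
  let κ : Type u := T.left.residueField t
  let Z := Pf.fiber t
  let zκ : Z ⟶ Spec (CommRingCat.of κ) := Pf.fiberToSpecResidueField t
  let ψ : Spec (CommRingCat.of κ) ⟶ S := T.left.fromSpecResidueField t ≫ T.hom
  let a : Z ⟶ X := Pf.fiberι t ≫ g'
  have hZ : IsPullback a zκ f₀ ψ :=
    (IsPullback.of_hasPullback Pf (T.left.fromSpecResidueField t)).paste_horiz (IsPullback.of_hasPullback f₀ T.hom)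
  let hP := isPullback_pjMap n (R := κ) ψ
  let ε : Z ⟶ CohB1.ProjSpace n κ := hP.lift (a ≫ i) zκ (by rw [Category.assoc]; exact hZ.w)
  have hε₁ : ε ≫ pjMap n ψ = a ≫ i := hP.lift_fst _ _ _
  have hε₂ : ε ≫ CohB1.ProjSpace.toSpec n κ = zκ := hP.lift_snd _ _ _
  haveI : IsClosedImmersion ε := by
    suffices h : IsPullback a ε i (pjMap n ψ) from
      MorphismProperty.of_isPullback (P := @IsClosedImmersion) h inferInstance
    refine IsPullback.of_bot ?_ hε₁.symm hP
    rw [hε₂]
    exact hZ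
  letI : Z.Over (Spec (CommRingCat.of κ)) := ⟨zκ⟩
  haveI : IsProper (Z ↘ Spec (CommRingCat.of κ)) := by
    show IsProper zκ
    haveI := isProper_projSpace κ (n := n)
    haveI : IsProper (CohB1.ProjSpace.toSpec n κ) :=
      MorphismProperty.of_isPullback (P := @IsProper) hP inferInstance
    rw [← hε₂]
    infer_instance
  haveI : IsNoetherian Z := CohFound.isNoetherian_of_isProper (Z ↘ Spec (CommRingCat.of κ))
  let M := (Scheme.Modules.pullback (Pf.fiberι t)).obj F
  have hM : Coh.IsCoh M := M1.isCoh_pullback _ hF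
  let D := (projData κ n).pullback ε
  have htw : ∀ m : ℤ, Nonempty ((Scheme.Modules.pullback (Pf.fiberι t)).obj (tX i m T) ≅ D.O m) := fun m => by
    obtain ⟨e⟩ := nonempty_pjMap_twistOver n (R := κ) ψ m
    exact ⟨(pullbackComp (Pf.fiberι t) g').app _ ≪≫ (pullbackComp a i).app _ ≪≫ (pullbackCongr hε₁.symm).app _ ≪≫
      ((pullbackComp ε _).app _).symm ≪≫ (Scheme.Modules.pullback ε).mapIso e⟩
  obtain ⟨c, hc⟩ := hasBinom (CohFound.isCoh_push_closedImm ε hM)
  have heul : ∀ m : ℤ, Curv2.euler κ Z (D.tw M m) = ∑ j, c j * Ring.choose m (j : ℕ) := fun m =>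
    (euler_push_tw (X := Z) ε hε₂ hM.1 m).symm.trans (hc m)
  refine ⟨binomPoly c, fun m => ?_, fun d l => ?_⟩
  · rw [binomPoly_eval, ← heul m]
    refine congrArg (fun z : ℤ => (z : ℚ)) ?_
    obtain ⟨e⟩ := htw m
    let j : CohB1.tensorMod (FGA.restrFibre f₀ T t F) (FGA.restrFibre f₀ T t (tX i m T)) ≅ D.tw M m :=
      M2.tensorIso (Iso.refl M) e
    refine Eq.trans ?_ (finsum_eq_finsetSum_of_support_subset (s := Finset.range (n + 1)) _ fun q hq => ?_).symm
    · exact Finset.sum_congr rfl fun q _ => by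
        exact congrArg (fun r : ℕ => (-1 : ℤ) ^ q * (r : ℤ)) (CBC10.hmapLinEquiv (X := Z) κ j q).finrank_eq
    · rw [Finset.coe_range, Set.mem_Iio]
      by_contra hlt
      haveI : Subsingleton (Coh.HH Z (D.tw M m) q) := bdd_sub (X := Z) ε hε₂ hM m (i := q) (by omega)
      simp [Module.finrank_zero_of_subsingleton] at hq
  · have hdl : ((d : ℚ) + (l : ℚ)) = ((d + (l : ℤ) : ℤ) : ℚ) := by push_cast; rfl
    rw [hdl, binomPoly_eval, ← heul]
    refine congrArg (fun z : ℤ => (z : ℚ)) ?_
    obtain ⟨e⟩ := htw d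
    obtain ⟨e'⟩ := htw l
    obtain ⟨j⟩ := nonempty_twistPow n S l
    exact CurveCoh17.euler_iso (k := κ)
      (M2.pullTensorIso (Pf.fiberι t) _ _ ≪≫
        M2.tensorIso (M2.pullTensorIso (Pf.fiberι t) F _ ≪≫ M2.tensorIso (Iso.refl M) e)
          ((Scheme.Modules.pullback (Pf.fiberι t)).mapIso
              ((M2.pullTensorPowIso g' _ l).symm ≪≫
                (Scheme.Modules.pullback g').mapIso ((M2.pullTensorPowIso i (O1 n S) l).symm ≪≫
                  (Scheme.Modules.pullback i).mapIso j.symm)) ≪≫ e') ≪≫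
        D.twTwist M d l)

end Groth.Agent.Quot18
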