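import Groth.Agent.Lib.Quot18.Unif
import Groth.Agent.Lib.CMReg18.Bounded
import Groth.Agent.Lib.CMReg18.FibGG
import Groth.Agent.Lib.RelPCS8.ClosedPush
import Groth.Agent.Lib.ClImmProj14.Iso
import Groth.Agent.Lib.ModM1.ClosedImm
import Groth.Agent.Lib.AffHom12.Basic

/-!
# Regularity of the quotients of a twisted sum on a projective space over a field
-/

set_option autoImplicit false
set_option linter.style.haveILetI false
set_option backward.isDefEq.respectTransparency false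
set_option maxHeartbeats 1600000

universe u

open CategoryTheory CategoryTheory.Limits AlgebraicGeometry TopologicalSpace Scheme.Modules

namespace Groth.Agent.Quot18

open Groth.Agent Groth.Agent.CMReg18

theorem finrank_eq_euler_of_vanish {k : Type u} [Field k] {X : Scheme.{u}} [X.Over (Spec (CommRingCat.of k))]
    {M : X.Modules} (h : ∀ i : ℕ, 1 ≤ i → Subsingleton (Coh.HH X M i)) :
    (Module.finrank k (Coh.HH X M 0) : ℤ) = Curv2.euler k X M := by
  refine Eq.symm ((finsum_eq_single _ 0 fun i hi => ?_).trans (by simp))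
  haveI := h i (Nat.one_le_iff_ne_zero.2 hi)
  simp [Module.finrank_zero_of_subsingleton]

/-- Uniform regularity of the quotients of the twisted sums, after twisting enough. -/
theorem exists_field_reg (n p : ℕ) (ν : ℤ) (Φ : Polynomial ℚ) :
    ∃ d₀ : ℤ, ∀ d : ℤ, d₀ ≤ d → ∀ (k : Type u) [Field k] (F : (CohB1.ProjSpace n k).Modules)
      (q : (∐ fun _ : Fin p => (projData k n).O (ν + d)) ⟶ F), Epi q → Coh.IsCoh F →
      (∀ l : ℕ, (Curv2.euler k (CohB1.ProjSpace n k) ((projData k n).tw F (l : ℤ)) : ℚ) = Φ.eval ((l : ℚ) + (d : ℚ))) →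
        (∀ i : ℕ, 1 ≤ i → Subsingleton (Coh.HH (CohB1.ProjSpace n k) F i)) ∧
          Subsingleton (Coh.HH (CohB1.ProjSpace n k) (kernel q) 1) ∧ Curv2.IsGloballyGenerated (kernel q) ∧
          (Module.finrank k (Coh.HH (CohB1.ProjSpace n k) F 0) : ℚ) = Φ.eval (d : ℚ) := by
  obtain ⟨M, hM⟩ := exists_uniform_reg.{u} n p ν fun l => Φ.eval (l : ℚ)
  refine ⟨M, fun d hd k _ F q hq hF hΦ => ?_⟩
  haveI := isProper_projSpace k (n := n)
  haveI : IsNoetherian (CohB1.ProjSpace n k) :=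
    CohFound.isNoetherian_of_isProper (CohB1.ProjSpace n k ↘ Spec (CommRingCat.of k))
  haveI := hq
  let D := projData k n
  let θ : (M2.tensorR (D.O (-d))).obj (∐ fun _ : Fin p => D.O (ν + d)) ≅ ∐ fun _ : Fin p => D.O ν :=
    PreservesCoproduct.iso (M2.tensorR (D.O (-d))) _ ≪≫
      Sigma.mapIso fun _ => D.add (ν + d) (-d) ≪≫ eqToIso (by rw [add_neg_cancel_right])
  let F₀ := D.tw F (-d)
  let q₀ : (∐ fun _ : Fin p => D.O ν) ⟶ F₀ := θ.inv ≫ (M2.tensorR (D.O (-d))).map q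
  have hS : (ShortComplex.mk (kernel.ι q) q (kernel.condition q)).ShortExact :=
    { exact := ShortComplex.exact_of_f_is_kernel _ (kernelIsKernel q) }
  haveI : Epi ((M2.tensorR (D.O (-d))).map q) := (D.shortExact_tw hS (-d)).epi_g
  have hq₀ : Epi q₀ := epi_comp _ _
  obtain ⟨a, ha⟩ := hasBinom hF
  have hpoly : binomPoly a = Φ.comp (Polynomial.X + Polynomial.C (d : ℚ)) :=
    Polynomial.eq_of_infinite_eval_eq _ _ (Set.infinite_of_injective_forall_mem
      (f := fun l : ℕ => (l : ℚ)) Nat.cast_injective fun l => by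
        show (binomPoly a).eval (l : ℚ) = (Φ.comp _).eval (l : ℚ)
        rw [Polynomial.eval_comp, Polynomial.eval_add, Polynomial.eval_X, Polynomial.eval_C, ← hΦ l,
          show (l : ℚ) = ((l : ℤ) : ℚ) by simp, binomPoly_eval, ← ha])
  have hall : ∀ r : ℤ, (Curv2.euler k (CohB1.ProjSpace n k) (D.tw F r) : ℚ) = Φ.eval ((r : ℚ) + (d : ℚ)) := fun r => by
    rw [ha, ← binomPoly_eval, hpoly, Polynomial.eval_comp, Polynomial.eval_add, Polynomial.eval_X, Polynomial.eval_C]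
  have hΦ₀ : ∀ l : ℕ, (Curv2.euler k (CohB1.ProjSpace n k) (D.tw F₀ (l : ℤ)) : ℚ) = Φ.eval (l : ℚ) := fun l => by
    rw [CurveCoh17.euler_iso (k := k) (D.twTwist F (-d) l), hall]
    push_cast
    ring_nf
  obtain ⟨h1, h2, h3⟩ := hM k F₀ q₀ hq₀ (isCoh_tw hF _) hΦ₀ d hd
  let eK : D.tw (kernel q₀) d ≅ kernel q :=
    (M2.tensorR (D.O d)).mapIso ((kernelIsIsoComp θ.inv ((M2.tensorR (D.O (-d))).map q)) ≪≫
      IsLimit.conePointUniqueUpToIso (limit.isLimit _) (D.shortExact_tw hS (-d)).fIsKernel) ≪≫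
      D.twTwist (kernel q) (-d) d ≪≫ D.twIso _ (neg_add_cancel d) ≪≫ D.twZero _
  let eF : D.tw F₀ d ≅ F := D.twTwist F (-d) d ≪≫ D.twIso _ (neg_add_cancel d) ≪≫ D.twZero _
  refine ⟨fun i hi => van_iso k eF (h2 i hi), van_iso k eK (h1 1 le_rfl), ?_, ?_⟩
  · obtain ⟨J, s, hs⟩ := h3
    exact ⟨J, s ≫ eK.hom, epi_comp _ _⟩
  · have h := finrank_eq_euler_of_vanish (k := k) fun i hi => van_iso k eF (h2 i hi)
    rw [show (Module.finrank k (Coh.HH (CohB1.ProjSpace n k) F 0) : ℚ) =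
      ((Module.finrank k (Coh.HH (CohB1.ProjSpace n k) F 0) : ℤ) : ℚ) from (Int.cast_natCast _).symm, h,
      ← CurveCoh17.euler_iso (k := k) (D.twZero F), hall]
    simp

/-- An isomorphism keeps global generation. -/
theorem isGloballyGenerated_of_push {X Y : Scheme.{u}} (e : X ⟶ Y) [IsIso e] {M : X.Modules}
    (h : Curv2.IsGloballyGenerated ((Scheme.Modules.pushforward e).obj M)) : Curv2.IsGloballyGenerated M := by
  obtain ⟨T, p, hp⟩ := h
  haveI := hp
  haveI := ClImmProj14.isIso_counit (i := e) (A := M)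
  haveI : PreservesColimitsOfShape WalkingSpan (Scheme.Modules.restrictFunctor e) :=
    preservesColimitsOfShape_of_natIso (Scheme.Modules.restrictFunctorIsoPullback e).symm
  exact ⟨T, (M1.frRestrictIso e T).hom ≫ ((Scheme.Modules.restrictFunctor e).map p ≫
    ((Scheme.Modules.restrictFunctorIsoPullback e).app _).hom ≫
      (pullbackPushforwardAdjunction e).counit.app M), epi_comp _ _⟩

/-- Uniform regularity on a scheme isomorphic to a projective space over a field. -/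
theorem exists_reg_iso (n p : ℕ) (ν : ℤ) (Φ : Polynomial ℚ) :
    ∃ d₀ : ℤ, ∀ d : ℤ, d₀ ≤ d → ∀ (k : Type u) [Field k] (Z : Scheme.{u}) [Z.Over (Spec (CommRingCat.of k))]
      (e : Z ⟶ CohB1.ProjSpace n k) [IsIso e], e ≫ CohB1.ProjSpace.toSpec n k = Z ↘ Spec (CommRingCat.of k) →
      ∀ (A F : Z.Modules) (_ : A ≅ ∐ fun _ : Fin p => ((projData k n).pullback e).O (ν + d)) (q : A ⟶ F),
      Epi q → Coh.IsQCoh A → Coh.IsCoh F →
      (∀ l : ℕ, (Curv2.euler k Z (((projData k n).pullback e).tw F (l : ℤ)) : ℚ) = Φ.eval ((l : ℚ) + (d : ℚ))) →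
        (∀ i : ℕ, 1 ≤ i → Subsingleton (Coh.HH Z F i)) ∧
          Subsingleton (Coh.HH Z (kernel q) 1) ∧ Curv2.IsGloballyGenerated (kernel q) ∧
          (Module.finrank k (Coh.HH Z F 0) : ℚ) = Φ.eval (d : ℚ) := by
  obtain ⟨d₀, h⟩ := exists_field_reg.{u} n p ν Φ
  refine ⟨d₀, fun d hd k _ Z _ e _ he A F θ q hq hAq hF hΦ => ?_⟩
  haveI := hq
  haveI := isProper_projSpace k (n := n)
  haveI : IsNoetherian (CohB1.ProjSpace n k) :=
    CohFound.isNoetherian_of_isProper (CohB1.ProjSpace n k ↘ Spec (CommRingCat.of k))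
  let PF := Scheme.Modules.pushforward e
  let D := projData k n
  haveI : Epi (PF.map q) := inferInstance
  haveI : IsIso ((pullbackPushforwardAdjunction e).unit.app (D.O (ν + d))) :=
    M1.isIso_unit_of_ker_smul e _ (Twist.isQCoh_twistProjSpace n k _) fun U a ha s => by
      rw [Scheme.Hom.ker_apply, RingHom.mem_ker] at ha
      have h0 : a = 0 := (ConcreteCategory.bijective_of_isIso (e.app U.1)).1 (ha.trans (map_zero _).symm)
      rw [h0, zero_smul]
  let θ' : (∐ fun _ : Fin p => D.O (ν + d)) ≅ PF.obj A :=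
    Sigma.mapIso (fun _ => asIso ((pullbackPushforwardAdjunction e).unit.app (D.O (ν + d)))) ≪≫
      (PreservesCoproduct.iso PF fun _ : Fin p => (D.pullback e).O (ν + d)).symm ≪≫ PF.mapIso θ.symm
  let q' : (∐ fun _ : Fin p => D.O (ν + d)) ⟶ PF.obj F := θ'.hom ≫ PF.map q
  have hFP : Coh.IsCoh (PF.obj F) := CohFound.isCoh_push_closedImm e hF
  obtain ⟨h1, h2, h3, h4⟩ := h d hd k (PF.obj F) q' (epi_comp _ _) hFP fun l => by
    rw [euler_push_tw e he hF.1]
    exact hΦ l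
  have hpush : ∀ {N : Z.Modules}, Coh.IsQCoh N → ∀ i : ℕ,
      Nonempty (Coh.HH (CohB1.ProjSpace n k) (PF.obj N) i ≃ₗ[k] Coh.HH Z N i) :=
    fun {N} hN i => AmpleFin18.nonempty_HH_push (k := k) e he N hN i
  have hKq : Coh.IsQCoh (kernel q) := M1.isQCoh_kernel hAq hF.1 q
  let eK : kernel q' ≅ PF.obj (kernel q) := kernelIsIsoComp θ'.hom (PF.map q) ≪≫ (PreservesKernel.iso PF q).symm
  refine ⟨fun i hi => ?_, ?_, ?_, ?_⟩
  · haveI := h1 i hi
    exact (hpush hF.1 i).some.symm.toEquiv.subsingleton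
  · haveI := van_iso k eK h2
    exact (hpush hKq 1).some.symm.toEquiv.subsingleton
  · obtain ⟨J, s, hs⟩ := h3
    exact isGloballyGenerated_of_push e ⟨J, s ≫ eK.hom, epi_comp _ _⟩
  · rw [← (hpush hF.1 0).some.finrank_eq]
    exact h4

end Groth.Agent.Quot18
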