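import Groth.Agent.Lib.Quot18.ClosedGood
import Groth.Agent.Lib.Quot18.FibPoly
import Groth.Agent.Lib.RegSeq23.Basic

/-!
# The Quot scheme with fixed Hilbert polynomial
-/

set_option autoImplicit false
set_option linter.style.haveILetI false
set_option backward.isDefEq.respectTransparency false
set_option backward.isDefEq.respectTransparency.types false
set_option maxHeartbeats 1600000

universe u

open CategoryTheory CategoryTheory.Limits AlgebraicGeometry Scheme.Modules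

namespace Groth.Agent.Quot18

open Groth.Agent Groth.Agent.CMReg18

variable {n : ℕ} {S : Scheme.{u}}

/-- Free sections of the twisted sum can be padded with zeros. -/
theorem exists_pad {W : Scheme.{u}} (f : W ⟶ S) {A : W.Modules} {N : ℕ}
    (σ : (Scheme.Modules.pullback f).obj (FlatMod.freeMod S N) ⟶ A)
    (hσ : Epi ((pullbackPushforwardAdjunction f).homEquiv _ _ σ)) {N' : ℕ} (h : N ≤ N') :
    ∃ σ' : (Scheme.Modules.pullback f).obj (FlatMod.freeMod S N') ⟶ A,
      Epi ((pullbackPushforwardAdjunction f).homEquiv _ _ σ') := by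
  let adj := pullbackPushforwardAdjunction f
  let ψ := adj.homEquiv _ _ σ
  haveI : Epi ψ := hσ
  let ψ' : FlatMod.freeMod S N' ⟶ (Scheme.Modules.pushforward f).obj A :=
    Sigma.desc fun j => if hj : (j : ℕ) < N then Sigma.ι (fun _ : Fin N => Coh.structureModule S) ⟨j, hj⟩ ≫ ψ else 0
  refine ⟨(adj.homEquiv _ _).symm ψ', ?_⟩
  rw [Equiv.apply_symm_apply]
  let inc : FlatMod.freeMod S N ⟶ FlatMod.freeMod S N' :=
    Sigma.desc fun j => Sigma.ι (fun _ : Fin N' => Coh.structureModule S) ⟨j, lt_of_lt_of_le j.2 h⟩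
  have e : inc ≫ ψ' = ψ := by
    refine Limits.Sigma.hom_ext _ _ fun j => ?_
    simp [inc, ψ', j.2]
  haveI : Epi (inc ≫ ψ') := by rw [e]; infer_instance
  exact epi_of_epi inc ψ'

theorem eq_of_forall_natCast {P Q : Polynomial ℚ} (c : ℚ) (h : ∀ l : ℕ, P.eval (c + (l : ℚ)) = Q.eval (c + (l : ℚ))) :
    P = Q := by
  refine Polynomial.eq_of_infinite_eval_eq P Q (Set.Infinite.mono (s := Set.range fun l : ℕ => c + (l : ℚ)) ?_ ?_)
  · rintro x ⟨l, rfl⟩
    exact h l
  · exact Set.infinite_range_of_injective fun a b hab => by simpa using hab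

/-- The Quot scheme of quotients with a fixed Hilbert polynomial. -/
theorem exists_quot_poly [IsNoetherian S] {X : Scheme.{u}} (i : X ⟶ CohB1.ProjSpaceOver n S) [IsClosedImmersion i]
    (E : X.Modules) (hE : Coh.IsCoh E) (p : ℕ) (ν : ℤ)
    (q : (∐ fun _ : Fin p => (Scheme.Modules.pullback i).obj (_root_.Twist.twistOver n S ν)) ⟶ E) [Epi q]
    (Φ : Polynomial ℚ) :
    ∃ (Q : Over S) (K : FGA.QuotSet (i ≫ CohB1.ProjSpaceOver.toBase n S) E Q),
      IsLocallyNoetherian Q.left ∧ (∀ (t : Q.left) (m : ℤ), (chiX i Q (cokernel K.1.arrow) t m : ℚ) = Φ.eval (m : ℚ)) ∧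
      (∀ (T : Over S) [IsLocallyNoetherian T.left] (K' : FGA.QuotSet (i ≫ CohB1.ProjSpaceOver.toBase n S) E T),
        (∀ (t : T.left) (m : ℤ), (chiX i T (cokernel K'.1.arrow) t m : ℚ) = Φ.eval (m : ℚ)) →
        ∃! g : T ⟶ Q, FGA.quotPull (i ≫ CohB1.ProjSpaceOver.toBase n S) E g K.1 = K'.1) ∧
      ∃ (r : ℕ) (c : Q.left ⟶ CohB1.ProjSpaceOver r S),
        IsClosedImmersion c ∧ c ≫ CohB1.ProjSpaceOver.toBase r S = Q.hom := by
  let π := CohB1.ProjSpaceOver.toBase n S
  let f := i ≫ π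
  haveI : IsProper f := inferInstanceAs (IsProper (i ≫ π))
  obtain ⟨d₀, hd₀⟩ := exists_closed_good.{u} n p ν Φ
  let d := max d₀ 0
  obtain ⟨hνd, hgood⟩ := hd₀ d (le_max_left _ _)
  obtain ⟨N₀, hN₀⟩ := exists_free_sections.{u} n p hνd
  obtain ⟨σ₀, hσ₀⟩ := hN₀ S
  let r := ⌊Φ.eval (d : ℚ)⌋₊
  obtain ⟨σ₁, hσ₁⟩ := exists_pad (CohB1.ProjSpaceOver.toBase n S) σ₀ hσ₀ (le_max_left N₀ r)
  let L₀ := (Scheme.Modules.pullback i).obj (_root_.Twist.twistOver n S d)
  have hL₀ : PicF.IsInvertible L₀ := PicLoc.isInvertible_pullback i (Twist.isInvertible_twistOver n S d)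
  let E' := CohB1.tensorMod E L₀
  have hE' : Coh.IsCoh E' := by
    haveI : IsLocallyNoetherian X := LocallyOfFiniteType.isLocallyNoetherian f
    exact (M1.isCoh_iff_isFP _).2 (isFP_tensor_inv (M1.isFP_of_isCoh hE) hL₀)
  obtain ⟨t⟩ := RegSeq23.nonempty_twistOver_tensor n (S := S) ν d
  haveI := (pullbackPushforwardAdjunction i).leftAdjoint_preservesColimits.{0, 0}
  haveI := VB17.isEquivalence_tensorR hL₀
  let G := M2.tensorR L₀
  let ι₁ : (Scheme.Modules.pullback i).obj (Tws n p (ν + d) S) ≅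
      G.obj (∐ fun _ : Fin p => (Scheme.Modules.pullback i).obj (_root_.Twist.twistOver n S ν)) :=
    PreservesCoproduct.iso (Scheme.Modules.pullback i) _ ≪≫
      Sigma.mapIso (fun _ => (Scheme.Modules.pullback i).mapIso t.symm ≪≫ M2.pullTensorIso i _ _) ≪≫
      (PreservesCoproduct.iso G _).symm
  let q₁ : (Scheme.Modules.pullback i).obj (Tws n p (ν + d) S) ⟶ E' := ι₁.hom ≫ G.map q
  haveI : Epi q₁ := by
    haveI : Epi (G.map q) := inferInstance
    exact epi_comp _ _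
  have hgd := hgood S X i E' q₁ _ σ₁ hσ₁
  have hL : RelAmple.IsRelAmple f ((Scheme.Modules.pullback i).obj (O1 n S)) :=
    (RA.isRelAmple_def _).2 fun V hV => AmpleImm18.isAmple_restrict_twistOver f i rfl hV
  obtain ⟨Q, K, hQn, hKhp, huniv, hproj⟩ := exists_quotScheme hL hE' (le_max_right N₀ r) _ hgd
  haveI := hQn
  -- the translation of the conditions
  have conv : ∀ (T : Over S) [IsLocallyNoetherian T.left] (K' : FGA.QuotSet f E T),
      HP f ((Scheme.Modules.pullback i).obj (O1 n S)) E' (Φ.comp (Polynomial.X + Polynomial.C (d : ℚ))) T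
          (twK f E L₀ T K'.1) ↔
        ∀ (t : T.left) (m : ℤ), (chiX i T (cokernel K'.1.arrow) t m : ℚ) = Φ.eval (m : ℚ) := by
    intro T _ K'
    obtain ⟨e⟩ := nonempty_cokernel_twK f E hL₀ T K'.1
    refine forall_congr' fun t => ?_
    obtain ⟨P, hP₁, hP₂⟩ := exists_fibre_poly i T K'.2.1 t
    letI : ((PicF.XTproj f T).fiber t).Over (Spec (CommRingCat.of (T.left.residueField t))) :=
      ⟨(PicF.XTproj f T).fiberToSpecResidueField t⟩
    have hl : ∀ l : ℕ, (fibChi (PicF.XTproj f T) (cokernel (twK f E L₀ T K'.1).arrow) 1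
        (fun _ => (Scheme.Modules.pullback (pullback.fst f T.hom)).obj ((Scheme.Modules.pullback i).obj (O1 n S))) t
        (fun _ => l) : ℚ) = P.eval ((d : ℚ) + (l : ℚ)) := fun l => by
      rw [← hP₂ d l]
      exact congrArg (fun z : ℤ => (z : ℚ)) (CurveCoh17.euler_iso (k := T.left.residueField t)
        ((Scheme.Modules.pullback ((PicF.XTproj f T).fiberι t)).mapIso (M2.tensorIso e.symm (Iso.refl _))))
    constructor
    · intro h m
      have hPΦ : P = Φ := eq_of_forall_natCast (d : ℚ) fun l => by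
        rw [← hl l, h l]
        simp [add_comm]
      rw [hP₁, hPΦ]
    · intro h l
      have hPΦ : P = Φ := eq_of_forall_natCast (d : ℚ) fun l => by
        have h' := (hP₁ (d + (l : ℤ))).symm.trans (h (d + (l : ℤ)))
        push_cast at h'
        exact h'
      rw [hl l, hPΦ]
      simp [add_comm]
  obtain ⟨K₀, hK₀⟩ := twK_surjective f E hL₀ Q K.1
  have hm : Coh.IsCoh (cokernel K₀.arrow) ∧ FlatMod.IsFlatOver (PicF.XTproj f Q) (cokernel K₀.arrow) :=
    (twK_mem_iff f E hL₀ Q K₀).1 (hK₀.symm ▸ K.2)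
  refine ⟨Q, ⟨K₀, hm⟩, hQn, (conv Q ⟨K₀, hm⟩).1 (hK₀.symm ▸ hKhp), fun T _ K' hK' => ?_, hproj⟩
  have hm' := (twK_mem_iff f E hL₀ T K'.1).2 K'.2
  obtain ⟨g, hg, hu⟩ := huniv T ⟨twK f E L₀ T K'.1, hm'⟩ ((conv T K').2 hK')
  have key : ∀ g : T ⟶ Q, FGA.quotPull f E g K₀ = K'.1 ↔ FGA.quotPull f E' g K.1 = twK f E L₀ T K'.1 := fun g => by
    rw [← hK₀, quotPull_twK f E hL₀]
    exact (twK_injective f E hL₀ T).eq_iff.symm
  exact ⟨g, (key g).2 hg, fun g' hg' => hu g' ((key g').1 hg')⟩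

end Groth.Agent.Quot18
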