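import Groth.Agent.Lib.Quot18.Sig
import Groth.Agent.Lib.Quot18.PullExact
import Groth.Agent.Lib.CMReg18.FibGG
import Groth.Agent.Lib.CMReg18.FlatCrit
import Groth.Agent.Lib.CMReg18.UnifVan
import Groth.Agent.Lib.CMReg18.PushKvb
import Groth.Agent.Lib.QuasiFlat.FlatOver
import Groth.Agent.S14444
import Groth.Agent.S10869

/-!
# Quotients with regular kernels are determined by the direct images
-/

set_option autoImplicit false
set_option linter.style.haveILetI false
set_option backward.isDefEq.respectTransparency false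
set_option maxHeartbeats 1600000

universe u

open CategoryTheory CategoryTheory.Limits AlgebraicGeometry Scheme.Modules

namespace Groth.Agent.Quot18

open Groth.Agent Groth.Agent.CMReg18 Groth.Agent.QuotExt3

section Abelian

variable {C : Type*} [Category C] [Abelian C] {V A F : C}

/-- The map of kernels along an epimorphism is an epimorphism. -/
theorem epi_kernel_map' (s : V ⟶ A) [Epi s] (g : A ⟶ F) :
    Epi (kernel.map (s ≫ g) g s (𝟙 F) (Category.comp_id _)) := by
  rw [epi_iff_surjective_up_to_refinements]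
  intro W y
  obtain ⟨W', π, hπ, x, hx⟩ := surjective_up_to_refinements_of_epi s (y ≫ kernel.ι g)
  refine ⟨W', π, hπ, kernel.lift _ x ?_, ?_⟩
  · rw [← reassoc_of% hx, kernel.condition, comp_zero, comp_zero]
  · rw [← cancel_mono (kernel.ι g), Category.assoc, Category.assoc, kernel.lift_ι, kernel.lift_ι_assoc]
    exact hx

/-- The image of the kernel of a composite. -/
theorem imageSubobject_kernel_comp (s : V ⟶ A) [Epi s] (g : A ⟶ F) :
    imageSubobject (kernel.ι (s ≫ g) ≫ s) = Subobject.mk (kernel.ι g) := by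
  haveI := epi_kernel_map' s g
  rw [← imageSubobject_mono (kernel.ι g),
    ← imageSubobject_epi_comp (kernel.map (s ≫ g) g s (𝟙 F) (Category.comp_id _)) (kernel.ι g), kernel.lift_ι]

/-- A subobject is the kernel of its cokernel. -/
theorem mk_kernel_cokernel (K : Subobject A) : Subobject.mk (kernel.ι (cokernel.π K.arrow)) = K :=
  Subobject.mk_eq_of_comm _
    (IsLimit.conePointUniqueUpToIso (kernelIsKernel _) (Abelian.monoIsKernelOfCokernel _ (cokernelIsCokernel K.arrow)))
    (IsLimit.conePointUniqueUpToIso_hom_comp (kernelIsKernel _)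
      (Abelian.monoIsKernelOfCokernel _ (cokernelIsCokernel K.arrow)) WalkingParallelPair.zero)

end Abelian

variable {P T : Scheme.{u}} {π : P ⟶ T}

/-- The relations are the sections of the kernel, when these generate it. -/
theorem imageSubobject_rel_kernel {A F : P.Modules} (p : A ⟶ F) {V : T.Modules}
    (ψ : V ⟶ (Scheme.Modules.pushforward π).obj A) [Epi ψ]
    [Epi ((pullbackPushforwardAdjunction π).counit.app (kernel p))] :
    imageSubobject ((Scheme.Modules.pullback π).map (kernel.ι (ψ ≫ (Scheme.Modules.pushforward π).map p)) ≫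
        ((pullbackPushforwardAdjunction π).homEquiv _ _).symm ψ) = Subobject.mk (kernel.ι p) := by
  let adj := pullbackPushforwardAdjunction π
  haveI := adj.leftAdjoint_preservesColimits.{0, 0}
  haveI : PreservesLimitsOfSize.{0, 0} (Scheme.Modules.pushforward π) := adj.rightAdjoint_preservesLimits
  haveI : (Scheme.Modules.pushforward π).Additive := adj.right_adjoint_additive
  let g := (Scheme.Modules.pushforward π).map p
  let a := kernel.map (ψ ≫ g) g ψ (𝟙 _) (Category.comp_id _)
  haveI : Epi a := epi_kernel_map' ψ g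
  let c := PreservesKernel.iso (Scheme.Modules.pushforward π) p
  have hc : kernel.ι g = c.inv ≫ (Scheme.Modules.pushforward π).map (kernel.ι p) := by
    rw [eq_comm, Iso.inv_comp_eq, PreservesKernel.iso_hom, kernelComparison_comp_ι]
  haveI : Epi ((Scheme.Modules.pullback π).map (a ≫ c.inv)) := inferInstance
  have key : (Scheme.Modules.pullback π).map (kernel.ι (ψ ≫ g)) ≫ (adj.homEquiv _ _).symm ψ =
      ((Scheme.Modules.pullback π).map (a ≫ c.inv) ≫ adj.counit.app (kernel p)) ≫ kernel.ι p := by
    rw [← Adjunction.homEquiv_naturality_left_symm, Adjunction.homEquiv_counit, Category.assoc]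
    have h := adj.counit.naturality (kernel.ι p)
    simp only [Functor.comp_map, Functor.id_map] at h
    rw [← h, ← Functor.map_comp_assoc, Category.assoc, ← hc, kernel.lift_ι]
  rw [key, imageSubobject_epi_comp, imageSubobject_mono]

/-- Base change holds when the first cohomology of the fibres vanishes. -/
theorem isIso_bc0_of_H1 [IsProper π] [LocallyOfFinitePresentation π] {A : P.Modules} (hA : CohB1.IsFP A)
    (hfl : FlatMod.IsFlatOver π A) (h1 : ∀ t : T, Subsingleton (CohIII.fiberH π A t 1))
    {X U : Scheme.{u}} {f : X ⟶ P} {ζ : X ⟶ U} {φ : U ⟶ T} (h : IsPullback f ζ π φ) :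
    IsIso (CohBC.bc0 π φ ζ f h.w A) := by
  haveI : Coh.IsQCoh A := M1.isFP_isQCoh hA
  exact (S14444.result π A hA hfl h1).2 f ζ φ h

/-- The transpose of a pulled back map is the base change of the transpose. -/
theorem homEquiv_sqMap {X S : Scheme.{u}} {f : X ⟶ S} {W T' : Scheme.{u}} (t : T' ⟶ S) (P' : W ⟶ T') (p : W ⟶ X)
    (w : P' ≫ t = p ≫ f) {V : S.Modules} {A : X.Modules} (σ : (Scheme.Modules.pullback f).obj V ⟶ A) :
    (pullbackPushforwardAdjunction P').homEquiv _ _ (sqMap t P' p w σ) =
      (Scheme.Modules.pullback t).map ((pullbackPushforwardAdjunction f).homEquiv _ _ σ) ≫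
        CohBC.bc0 f t P' p w.symm A := by
  apply ((pullbackPushforwardAdjunction P').homEquiv _ _).symm.injective
  rw [Equiv.symm_apply_apply, Adjunction.homEquiv_counit, Functor.map_comp, Category.assoc,
    bc0_counit f t P' p w.symm A]
  have hn := (squareIso f t P' p w.symm).hom.naturality ((pullbackPushforwardAdjunction f).homEquiv _ _ σ)
  simp only [Functor.comp_map] at hn
  rw [← Category.assoc, hn, Category.assoc, ← Functor.map_comp]
  have he : (Scheme.Modules.pullback f).map ((pullbackPushforwardAdjunction f).homEquiv _ _ σ) ≫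
      (pullbackPushforwardAdjunction f).counit.app A = σ :=
    (Adjunction.homEquiv_counit _ _ _ _).symm.trans (Equiv.symm_apply_apply _ σ)
  rw [he]
  simp only [sqMap, squareIso, ModLimH13.cmp, Iso.trans_hom, NatTrans.comp_app, Category.assoc, Iso.symm_hom]

/-- Pulling back keeps the transpose an epimorphism. -/
theorem epi_homEquiv_sqMap [IsProper π] [LocallyOfFinitePresentation π] {A : P.Modules} (hA : CohB1.IsFP A)
    (hfl : FlatMod.IsFlatOver π A) (h1 : ∀ t : T, Subsingleton (CohIII.fiberH π A t 1)) {V : T.Modules}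
    (σ : (Scheme.Modules.pullback π).obj V ⟶ A) (hσ : Epi ((pullbackPushforwardAdjunction π).homEquiv _ _ σ))
    {W T' : Scheme.{u}} {t : T' ⟶ T} {P' : W ⟶ T'} {p : W ⟶ P} (sq : IsPullback p P' π t) :
    Epi ((pullbackPushforwardAdjunction P').homEquiv _ _ (sqMap t P' p sq.w.symm σ)) := by
  rw [homEquiv_sqMap]
  haveI := isIso_bc0_of_H1 hA hfl h1 sq
  haveI := (pullbackPushforwardAdjunction t).leftAdjoint_preservesColimits.{0, 0}
  haveI := hσ
  exact epi_comp _ _

section Fibres

variable [IsProper π] [LocallyOfFinitePresentation π]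

/-- Flat families of quotients whose fibres have acyclic quotient and generated kernel. -/
theorem push_of_fibres [IsLocallyNoetherian T] [IsLocallyNoetherian P] {A F : P.Modules} (p : A ⟶ F) [Epi p]
    (hA : Coh.IsCoh A) (hF : Coh.IsCoh F) (hAfl : FlatMod.IsFlatOver π A) (hFfl : FlatMod.IsFlatOver π F) (r : ℕ)
    (hK1 : ∀ t : T,
      Subsingleton (Coh.HH (π.fiber t) (kernel ((Scheme.Modules.pullback (π.fiberι t)).map p)) 1))
    (hKgg : ∀ t : T, Curv2.IsGloballyGenerated (kernel ((Scheme.Modules.pullback (π.fiberι t)).map p)))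
    (hF1 : ∀ (t : T) (i : ℕ), 1 ≤ i → Subsingleton (CohIII.fiberH π F t i))
    (hr : ∀ t : T, CohIII.fiberRank π F 0 t = r) :
    Epi ((Scheme.Modules.pushforward π).map p) ∧
      FlatMod.IsFinLocFreeOfRank r ((Scheme.Modules.pushforward π).obj F) ∧
      Epi ((pullbackPushforwardAdjunction π).counit.app (kernel p)) := by
  have hS : (ShortComplex.mk (kernel.ι p) p (kernel.condition p)).ShortExact :=
    { exact := ShortComplex.exact_of_f_is_kernel _ (kernelIsKernel p) }
  have hK : Coh.IsCoh (kernel p) :=
    ⟨M1.isQCoh_kernel hA.1 hF.1 p, M1.isFT_kernel hA.2 (M1.isFP_of_isCoh hF) p⟩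
  have hKfl : FlatMod.IsFlatOver π (kernel p) := fun x =>
    (QF.isFlatOverAt_iff_of_shortExact π _ hS x (hFfl x)).1 (hAfl x)
  have hKfp : CohB1.IsFP (kernel p) := M1.isFP_of_isCoh hK
  have hiso : ∀ t : T, Nonempty ((Scheme.Modules.pullback (π.fiberι t)).obj (kernel p) ≅
      kernel ((Scheme.Modules.pullback (π.fiberι t)).map p)) := fun t => by
    have h := shortExact_pullback_relFlat (IsPullback.of_hasPullback π (T.fromSpecResidueField t)) hS hFfl
    exact ⟨IsLimit.conePointUniqueUpToIso h.fIsKernel (limit.isLimit _)⟩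
  have hK1' : ∀ t : T, Subsingleton (CohIII.fiberH π (kernel p) t 1) := fun t => by
    letI : (π.fiber t).Over (Spec (CommRingCat.of (T.residueField t))) := ⟨π.fiberToSpecResidueField t⟩
    obtain ⟨e⟩ := hiso t
    exact van_iso (T.residueField t) e.symm (hK1 t)
  refine ⟨(shortExact_push_of_isZero π hS hK.1 (isZero_rpushAb_of_fibres hKfp hKfl 1 hK1')).epi_g, ?_, ?_⟩
  · obtain ⟨hfree, -⟩ := isFinLocFree_push_of_vanishing (M1.isFP_of_isCoh hF) hFfl hF1
    intro t
    obtain ⟨U, m, htU, ⟨e⟩⟩ := hfree t
    haveI : IsIso (CohBC.bc0 π (T.fromSpecResidueField t) (π.fiberToSpecResidueField t) (π.fiberι t)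
        (π.fiber_fac t) F) := isIso_bc0_of_H1 (M1.isFP_of_isCoh hF) hFfl (fun s => hF1 s 1 le_rfl)
      (IsPullback.of_hasPullback π (T.fromSpecResidueField t))
    rw [← hr t, rank_eq_fiberRank F htU e]
    exact ⟨U, htU, ⟨e⟩⟩
  · refine epi_counit_of_fibres π hK (fun t => isIso_bc0_of_H1 hKfp hKfl hK1'
      (IsPullback.of_hasPullback π (T.fromSpecResidueField t))) fun t => ?_
    haveI : IsProper (π.fiberToSpecResidueField t) :=
      inferInstanceAs (IsProper (pullback.snd π (T.fromSpecResidueField t)))
    refine ((S10869.result (π.fiberToSpecResidueField t) _ (M1.isQCoh_pullback _ hK.1)).2).2 fun U _ => ?_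
    obtain ⟨e⟩ := hiso t
    obtain ⟨J, q, hq⟩ := hKgg t
    exact isGloballyGenerated_restrict ⟨J, q ≫ e.inv, epi_comp _ _⟩ _

end Fibres

end Groth.Agent.Quot18
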