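import Groth.Agent.Lib.Grass.Free
import Groth.Agent.Lib.Grass.Plucker

/-!
# The standard charts of the Grassmannian and their matrices
-/

set_option autoImplicit false
set_option linter.style.haveILetI false
set_option backward.isDefEq.respectTransparency false
set_option maxHeartbeats 800000

universe u

open CategoryTheory CategoryTheory.Limits AlgebraicGeometry TensorProduct Module

namespace Groth.Agent.Quot18.GrC

open Groth.Agent Groth.Agent.GrassLib

attribute [local irreducible] ChartSet.pt

variable (R : Type u) [CommRing R] (N k : ℕ)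

/-- The Grassmannian of rank `k` quotients of `R^N`. -/
noncomputable abbrev X0 : Over (Spec (CommRingCat.of R)) := GrassLib.grOver R (Fin N → R) k

/-- The glued Grassmannian represents the functor of points. -/
noncomputable def rep : GrassLib.Rep R (Fin N → R) k (X0 R N k) where
  e A := GrassLib.ptEquiv A
  natural _ _ φ g g' h := GrassLib.ptEquiv_natural φ.hom g g' h

variable {N k}

/-- The coordinate ring of a standard chart. -/
abbrev CR (σ : Fin k ↪ Fin N) : Type u := MvPolynomial (GrassLib.FreeVar σ) R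

/-- The standard basis. -/
noncomputable abbrev bas : Basis (Fin N) R (Fin N → R) := Pi.basisFun R (Fin N)

/-- The matrix of the standard chart. -/
noncomputable def M (σ : Fin k ↪ Fin N) : Matrix (Fin k) (Fin N) (CR R σ) :=
  Matrix.of fun i c => freeEll (bas R) σ (bas R c) i

/-- The standard chart. -/
noncomputable def j (σ : Fin k ↪ Fin N) : Spec (CommRingCat.of (CR R σ)) ⟶ (X0 R N k).left :=
  sp (freeChartEquiv (bas R) σ).symm.toAlgHom ≫ (rep R N k).chartInc (bas R ∘ σ)

instance (σ : Fin k ↪ Fin N) : IsOpenImmersion (j R σ) := by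
  haveI : IsIso (sp (freeChartEquiv (bas R) σ).symm.toAlgHom) :=
    inferInstanceAs (IsIso (Spec.map (freeChartEquiv (bas R) σ).symm.toRingEquiv.toCommRingCatIso.hom))
  exact inferInstanceAs (IsOpenImmersion (_ ≫ _))

theorem j_str (σ : Fin k ↪ Fin N) : j R σ ≫ (X0 R N k).hom = str R (CR R σ) := by
  rw [j, Category.assoc]
  exact (rep R N k).chartInc_free_hom (bas R) σ

theorem exists_mem_range_j (p : (X0 R N k).left) : ∃ σ : Fin k ↪ Fin N, p ∈ Set.range (j R σ) := by
  obtain ⟨σ, q, hq⟩ := (rep R N k).free_covers (bas R) p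
  haveI : IsIso (sp (freeChartEquiv (bas R) σ).symm.toAlgHom) :=
    inferInstanceAs (IsIso (Spec.map (freeChartEquiv (bas R) σ).symm.toRingEquiv.toCommRingCatIso.hom))
  obtain ⟨q', rfl⟩ := (sp (freeChartEquiv (bas R) σ).symm.toAlgHom).homeomorph.surjective q
  exact ⟨σ, q', hq⟩

theorem M_block (σ : Fin k ↪ Fin N) : (M R σ).submatrix id σ = 1 := by
  ext i l
  rw [Matrix.submatrix_apply, id, M, Matrix.of_apply, freeEll_apply_range, Matrix.one_apply, Pi.single_apply]

theorem sp_j {A : Type u} [CommRing A] [Algebra R A] (σ : Fin k ↪ Fin N) (χ : CR R σ →ₐ[R] A) :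
    sp χ ≫ j R σ = (rep R N k).mor (GrassLib.gmap χ (freePt (bas R) σ)) := by
  rw [j, ← Category.assoc, ← sp_comp, Rep.sp_chartInc, gmap_comp]
  congr 2
  exact gmap_ofFreeChart (bas R) σ

/-- The matrices of two charts through a point differ by the change of basis. -/
theorem M_change {A : Type u} [CommRing A] [Algebra R A] (σ τ : Fin k ↪ Fin N) (χ : CR R σ →ₐ[R] A)
    (χ' : CR R τ →ₐ[R] A) (h : sp χ ≫ j R σ = sp χ' ≫ j R τ) :
    (M R τ).map χ' = ((M R τ).map χ').submatrix id σ * (M R σ).map χ := by
  rw [sp_j, sp_j] at h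
  have hN := (rep R N k).mor_injective h
  have hσ := (inChart_freePt (bas R) σ).gmap χ
  have hτ := (inChart_freePt (bas R) τ).gmap χ'
  rw [← hN] at hτ
  have eσ : ∀ m, hσ.ell m = fun i => χ (freeEll (bas R) σ m i) := fun m => by
    rw [(inChart_freePt (bas R) σ).ell_gmap, ell_freePt]
  have eτ : ∀ m, hτ.ell m = fun i => χ' (freeEll (bas R) τ m i) := by
    have : ∀ (P : Pt R (Fin N → R) k A) (hP : InChart (bas R ∘ τ) P), P = GrassLib.gmap χ' (freePt (bas R) τ) →
        ∀ m, hP.ell m = fun i => χ' (freeEll (bas R) τ m i) := by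
      rintro P hP rfl m
      rw [(inChart_freePt (bas R) τ).ell_gmap, ell_freePt]
    exact this _ hτ hN
  ext i c
  have key := (hτ.mem_iff _).1 (hσ.sub_mem (bas R c))
  rw [map_sub, sub_eq_zero, lc_apply, map_sum] at key
  have e := congrFun key i
  rw [LinearMap.liftBaseChange_tmul, one_smul, Finset.sum_apply] at e
  rw [Matrix.map_apply, Matrix.mul_apply]
  refine ((congrFun (eτ (bas R c)) i).symm.trans e).trans (Finset.sum_congr rfl fun l _ => ?_)
  rw [LinearMap.liftBaseChange_tmul, Pi.smul_apply, smul_eq_mul, eσ, eτ]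
  exact mul_comm _ _

/-- A point of a chart where a minor does not vanish lies in the chart of that minor. -/
theorem mem_range_j (σ τ : Fin k ↪ Fin N) (q : PrimeSpectrum (CR R τ))
    (h : ((M R τ).submatrix id σ).det ∉ q.asIdeal) : j R τ q ∈ Set.range (j R σ) := by
  have e : j R τ = (rep R N k).mor (freePt (bas R) τ) := by
    have h1 := sp_j R τ (AlgHom.id R (CR R τ))
    rwa [sp_id, Category.id_comp, gmap_id] at h1
  have hmem : (rep R N k).mor (freePt (bas R) τ) q ∈ Set.range ((rep R N k).chartInc (bas R ∘ σ)) := by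
    rw [Rep.mem_range_chartInc, ((inChart_freePt (bas R) τ).gmap (resHom q)).inChart_iff_isUnit_det,
      InChart.det_gmap, isUnit_iff_ne_zero]
    intro h0
    apply h
    rw [← Ideal.ker_algebraMap_residueField q.asIdeal, RingHom.mem_ker]
    have hd : (inChart_freePt (bas R) τ).det (bas R ∘ σ) = ((M R τ).submatrix id σ).det := by
      rw [InChart.det, ell_freePt]
      rfl
    rw [← hd]
    exact h0
  obtain ⟨z, hz⟩ := hmem
  haveI : IsIso (sp (freeChartEquiv (bas R) σ).symm.toAlgHom) :=
    inferInstanceAs (IsIso (Spec.map (freeChartEquiv (bas R) σ).symm.toRingEquiv.toCommRingCatIso.hom))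
  obtain ⟨z', rfl⟩ := (sp (freeChartEquiv (bas R) σ).symm.toAlgHom).homeomorph.surjective z
  exact ⟨z', by rw [e]; exact hz⟩

end Groth.Agent.Quot18.GrC
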