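import Groth.Agent.Lib.Quot18.MatHom
import Groth.Agent.Lib.Quot18.GrCharts
import Groth.Agent.Lib.Quot18.Gen
import Groth.Agent.Lib.ParaFDesc27.QcqsBC
import Groth.Agent.Lib.QuotExt3.Pull

/-!
# The universal quotient on the Grassmannian
-/

set_option autoImplicit false
set_option linter.style.haveILetI false
set_option backward.isDefEq.respectTransparency false
set_option backward.isDefEq.respectTransparency.types false
set_option maxHeartbeats 1600000

universe u

open CategoryTheory CategoryTheory.Limits AlgebraicGeometry Scheme.Modules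

namespace Groth.Agent.Quot18.GrC

open Groth.Agent Groth.Agent.GrassLib MatHom

attribute [local irreducible] ChartSet.pt

/-- The structure sheaf pulls back along a composite. -/
theorem cmp_struct {W U X : Scheme.{u}} (p : W ⟶ U) (g : U ⟶ X) {h : W ⟶ X} (w : p ≫ g = h) :
    (ModLimH13.cmp p g w).hom.app (Coh.structureModule X) ≫ (PicLoc.pullbackStructureIso h).hom =
      (Scheme.Modules.pullback p).map (PicLoc.pullbackStructureIso g).hom ≫ (PicLoc.pullbackStructureIso p).hom := by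
  subst w
  have e : (ModLimH13.cmp p g rfl).hom.app (Coh.structureModule X) =
      (pullbackComp p g).hom.app (Coh.structureModule X) := Category.comp_id _
  rw [e]
  refine ((pullbackPushforwardAdjunction p).homEquiv _ _).injective (QuotExt3.hom_ext_pull g _ _ fun V s => ?_)
  rw [Adjunction.homEquiv_unit, Adjunction.homEquiv_unit]
  show (PicLoc.pullbackStructureIso (p ≫ g)).hom.app (p ⁻¹ᵁ g ⁻¹ᵁ V)
      (((pullbackComp p g).hom.app (Coh.structureModule X)).app (p ⁻¹ᵁ g ⁻¹ᵁ V)
        (M2.pullSec p _ (M2.pullSec g _ s))) =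
    (PicLoc.pullbackStructureIso p).hom.app (p ⁻¹ᵁ g ⁻¹ᵁ V)
      (((Scheme.Modules.pullback p).map (PicLoc.pullbackStructureIso g).hom).app (p ⁻¹ᵁ g ⁻¹ᵁ V)
        (M2.pullSec p _ (M2.pullSec g _ s)))
  rw [ModLimH13.pullbackComp_pullSec p g, Amp.map_pullSec, VA11.pullbackStructureIso_pullSec g,
    VA11.pullbackStructureIso_pullSec p]
  exact VA11.pullbackStructureIso_pullSec (p ≫ g) (V := V) s

/-- Free modules pull back along a composite. -/
theorem freeModPullbackIso_comp {W U X : Scheme.{u}} (p : W ⟶ U) (g : U ⟶ X) {h : W ⟶ X} (w : p ≫ g = h) (a : ℕ) :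
    (ModLimH13.cmp p g w).hom.app (FlatMod.freeMod X a) ≫ (M2.freeModPullbackIso h a).hom =
      (Scheme.Modules.pullback p).map (M2.freeModPullbackIso g a).hom ≫ (M2.freeModPullbackIso p a).hom := by
  have key : (Scheme.Modules.pullback p).map (M2.freeModPullbackIso g a).inv ≫
      (ModLimH13.cmp p g w).hom.app (FlatMod.freeMod X a) ≫ (M2.freeModPullbackIso h a).hom =
        (M2.freeModPullbackIso p a).hom := by
    rw [← cancel_epi (M2.freeModPullbackIso p a).inv, Iso.inv_hom_id]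
    refine Sigma.hom_ext _ _ fun l => ?_
    change inj W l ≫ _ = inj W l ≫ _
    rw [reassoc_of% inj_freeModPullbackIso_inv, Category.comp_id, ← Functor.map_comp_assoc, inj_freeModPullbackIso_inv,
      Functor.map_comp, Category.assoc]
    have n := (ModLimH13.cmp p g w).hom.naturality (inj X l)
    simp only [Functor.comp_map] at n
    have n' : (Scheme.Modules.pullback h).map (inj X l) ≫ (M2.freeModPullbackIso h a).hom =
        (PicLoc.pullbackStructureIso h).hom ≫ inj W l := by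
      rw [← cancel_mono (M2.freeModPullbackIso h a).inv, Category.assoc, Iso.hom_inv_id, Category.comp_id,
        Category.assoc, inj_freeModPullbackIso_inv, Iso.hom_inv_id_assoc]
    rw [reassoc_of% n, n', reassoc_of% cmp_struct p g w, ← Functor.map_comp_assoc, Iso.inv_hom_id,
      CategoryTheory.Functor.map_id, Category.id_comp, Iso.inv_hom_id_assoc]
  rw [← cancel_epi ((Scheme.Modules.pullback p).map (M2.freeModPullbackIso g a).inv), key,
    ← Functor.map_comp_assoc, Iso.inv_hom_id, CategoryTheory.Functor.map_id, Category.id_comp]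

/-- The ring over which the Grassmannian is built. -/
abbrev RZ : Type u := ULift.{u} ℤ

theorem subsingleton_ringHom_RZ {A : Type u} [CommRing A] (f g : RZ.{u} →+* A) : f = g := by
  have h : f.comp (ULift.ringEquiv.symm : ℤ ≃+* RZ.{u}).toRingHom = g.comp (ULift.ringEquiv.symm : ℤ ≃+* RZ.{u}).toRingHom :=
    RingHom.ext_int _ _
  ext x
  exact RingHom.congr_fun h (ULift.ringEquiv x)

variable {N k : ℕ}

/-- The Grassmannian of rank `k` quotients of `O^N`. -/
noncomputable abbrev Gr0 (N k : ℕ) : Scheme.{u} := (X0 RZ.{u} N k).left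

/-- A standard chart. -/
noncomputable abbrev U0 (σ : Fin k ↪ Fin N) : Scheme.{u} := Spec (CommRingCat.of (CR RZ.{u} σ))

/-- Its inclusion. -/
noncomputable abbrev j0 (σ : Fin k ↪ Fin N) : U0.{u} σ ⟶ Gr0.{u} N k := j RZ.{u} σ

/-- The matrix of a chart, as functions on it. -/
noncomputable def m0 (σ : Fin k ↪ Fin N) : Matrix (Fin k) (Fin N) Γ(U0.{u} σ, ⊤) :=
  (M RZ.{u} σ).map (Scheme.ΓSpecIso (CommRingCat.of (CR RZ.{u} σ))).inv.hom

theorem m0_block (σ : Fin k ↪ Fin N) : (m0.{u} σ).submatrix id σ = 1 := by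
  rw [m0, Matrix.submatrix_map, M_block, Matrix.map_one]
  · exact map_zero _
  · exact map_one _

theorem isSeparated_Gr0 (hk : k ≤ N) : IsSeparated (X0 RZ.{u} N k).hom := by
  obtain ⟨c, hc, hc'⟩ := (rep RZ.{u} N k).exists_plucker (bas RZ.{u}) hk
  haveI := hc
  rw [← hc']
  infer_instance

theorem isAffineHom_j0 (hk : k ≤ N) (σ : Fin k ↪ Fin N) : IsAffineHom (j0.{u} σ) := by
  haveI := isSeparated_Gr0.{u} hk
  exact MorphismProperty.of_postcomp (W := @IsAffineHom) (W' := @IsSeparated) (j0.{u} σ) (X0 RZ.{u} N k).hom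
    inferInstance inferInstance

/-- The matrices of two charts agree on their intersection up to a change of basis. -/
theorem m0_change (hk : k ≤ N) (σ τ : Fin k ↪ Fin N) {W : Scheme.{u}} (a : W ⟶ U0 σ) (b : W ⟶ U0 τ)
    (w : a ≫ j0 σ = b ≫ j0 τ) :
    (m0 τ).map b.appTop = ((m0 τ).map b.appTop).submatrix id σ * (m0 σ).map a.appTop := by
  haveI := isAffineHom_j0.{u} hk σ
  let P := pullback (j0.{u} σ) (j0.{u} τ)
  haveI : IsAffineHom (pullback.snd (j0.{u} σ) (j0.{u} τ)) := MorphismProperty.pullback_snd _ _ inferInstance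
  haveI : IsAffine P := isAffine_of_isAffineHom (pullback.snd (j0.{u} σ) (j0.{u} τ))
  suffices h : (m0 τ).map (pullback.snd (j0.{u} σ) (j0.{u} τ)).appTop =
      ((m0 τ).map (pullback.snd (j0.{u} σ) (j0.{u} τ)).appTop).submatrix id σ *
        (m0 σ).map (pullback.fst (j0.{u} σ) (j0.{u} τ)).appTop by
    let l := pullback.lift a b w
    have ha : l ≫ pullback.fst _ _ = a := pullback.lift_fst _ _ _
    have hb : l ≫ pullback.snd _ _ = b := pullback.lift_snd _ _ _
    have := congrArg (fun Q => Matrix.map Q l.appTop) h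
    simp only [Matrix.map_mul, ← Matrix.submatrix_map, Matrix.map_map] at this
    rw [← ha, ← hb, Scheme.Hom.comp_appTop, Scheme.Hom.comp_appTop]
    exact this
  let A : Type u := Γ(P, ⊤)
  let φ : CR RZ.{u} σ →+* A :=
    (pullback.fst (j0.{u} σ) (j0.{u} τ)).appTop.hom.comp (Scheme.ΓSpecIso (CommRingCat.of (CR RZ.{u} σ))).inv.hom
  let φ' : CR RZ.{u} τ →+* A :=
    (pullback.snd (j0.{u} σ) (j0.{u} τ)).appTop.hom.comp (Scheme.ΓSpecIso (CommRingCat.of (CR RZ.{u} τ))).inv.hom
  letI : Algebra RZ.{u} A := (φ.comp MvPolynomial.C).toAlgebra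
  let χ : CR RZ.{u} σ →ₐ[RZ.{u}] A := { φ with commutes' := fun r => rfl }
  let χ' : CR RZ.{u} τ →ₐ[RZ.{u}] A := { φ' with
    commutes' := fun r => RingHom.congr_fun (subsingleton_ringHom_RZ (φ'.comp MvPolynomial.C) (φ.comp MvPolynomial.C)) r }
  have e₁ : P.toSpecΓ ≫ sp χ = pullback.fst (j0.{u} σ) (j0.{u} τ) := by
    show P.toSpecΓ ≫ Spec.map ((Scheme.ΓSpecIso (CommRingCat.of (CR RZ.{u} σ))).inv ≫
      (pullback.fst (j0.{u} σ) (j0.{u} τ)).appTop) = _
    rw [Spec.map_comp, ← Scheme.toSpecΓ_naturality_assoc, toSpecΓ_SpecMap_ΓSpecIso_inv, Category.comp_id]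
  have e₂ : P.toSpecΓ ≫ sp χ' = pullback.snd (j0.{u} σ) (j0.{u} τ) := by
    show P.toSpecΓ ≫ Spec.map ((Scheme.ΓSpecIso (CommRingCat.of (CR RZ.{u} τ))).inv ≫
      (pullback.snd (j0.{u} σ) (j0.{u} τ)).appTop) = _
    rw [Spec.map_comp, ← Scheme.toSpecΓ_naturality_assoc, toSpecΓ_SpecMap_ΓSpecIso_inv, Category.comp_id]
  have h := M_change RZ.{u} σ τ χ χ' (by
    rw [← cancel_epi P.toSpecΓ, reassoc_of% e₁, reassoc_of% e₂]
    exact pullback.condition)
  rw [m0, m0, Matrix.map_map, Matrix.map_map]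
  exact h

/-- The quotient on a chart. -/
noncomputable def qC (σ : Fin k ↪ Fin N) :
    (Scheme.Modules.pullback (j0.{u} σ)).obj (FlatMod.freeMod (Gr0.{u} N k) N) ⟶ FlatMod.freeMod (U0.{u} σ) k :=
  (M2.freeModPullbackIso (j0.{u} σ) N).hom ≫ MatHom.hom (m0 σ)

/-- The chart's block of a quotient map. -/
theorem inj_qC (σ : Fin k ↪ Fin N) :
    MatHom.hom ((1 : Matrix (Fin N) (Fin N) Γ(U0.{u} σ, ⊤)).submatrix id σ) ≫
      (M2.freeModPullbackIso (j0.{u} σ) N).inv ≫ qC σ = 𝟙 _ := by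
  rw [qC, Iso.inv_hom_id_assoc]
  refine mat_injective ?_
  rw [mat_comp, mat_hom, mat_hom, mat_id, ← m0_block σ]
  ext i l
  simp [Matrix.mul_apply, Matrix.one_apply]

theorem epi_qC (σ : Fin k ↪ Fin N) : Epi (qC.{u} σ) := by
  haveI : Epi ((MatHom.hom ((1 : Matrix (Fin N) (Fin N) Γ(U0.{u} σ, ⊤)).submatrix id σ) ≫
      (M2.freeModPullbackIso (j0.{u} σ) N).inv) ≫ qC σ) := by
    rw [Category.assoc, inj_qC]
    infer_instance
  exact epi_of_epi (MatHom.hom ((1 : Matrix (Fin N) (Fin N) Γ(U0.{u} σ, ⊤)).submatrix id σ) ≫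
      (M2.freeModPullbackIso (j0.{u} σ) N).inv) _

variable (N k)

/-- The maps to the direct images of the charts. -/
noncomputable def Θ : FlatMod.freeMod (Gr0.{u} N k) N ⟶
    ⨁ fun σ : Fin k ↪ Fin N => (Scheme.Modules.pushforward (j0.{u} σ)).obj (FlatMod.freeMod (U0.{u} σ) k) :=
  biproduct.lift fun σ => (pullbackPushforwardAdjunction (j0.{u} σ)).homEquiv _ _ (qC σ)

/-- The universal quotient. -/
noncomputable def Qu : (Gr0.{u} N k).Modules := cokernel (kernel.ι (Θ.{u} N k))

/-- The universal quotient map. -/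
noncomputable def qu : FlatMod.freeMod (Gr0.{u} N k) N ⟶ Qu.{u} N k := cokernel.π _

instance : Epi (qu.{u} N k) := inferInstanceAs (Epi (cokernel.π _))

variable {N k}

/-- The pullback to a chart of the map to another chart kills the relations. -/
theorem kernel_comp_map (hk : k ≤ N) (ρ τ : Fin k ↪ Fin N) :
    kernel.ι (qC.{u} τ) ≫ (Scheme.Modules.pullback (j0.{u} τ)).map
      ((pullbackPushforwardAdjunction (j0.{u} ρ)).homEquiv _ _ (qC ρ)) = 0 := by
  let a := pullback.fst (j0.{u} ρ) (j0.{u} τ)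
  let b := pullback.snd (j0.{u} ρ) (j0.{u} τ)
  have w : a ≫ j0.{u} ρ = b ≫ j0 τ := pullback.condition
  haveI := isAffineHom_j0.{u} hk ρ
  haveI : Coh.IsQCoh (FlatMod.freeMod (U0.{u} ρ) k) :=
    (CurveCoh17.isCoh_of_ofRank (M2.isFinLocFreeOfRank_freeMod (U0.{u} ρ) k)).1
  haveI := ParaFDesc27.isIso_bc0_of_flat (IsPullback.of_hasPullback (j0.{u} ρ) (j0.{u} τ))
    (FlatMod.freeMod (U0.{u} ρ) k)
  rw [← cancel_mono (CohBC.bc0 (j0.{u} ρ) (j0.{u} τ) b a w (FlatMod.freeMod (U0.{u} ρ) k)), Category.assoc, zero_comp,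
    ← homEquiv_sqMap (j0.{u} τ) b a w.symm (qC ρ), ← Adjunction.homEquiv_naturality_left]
  haveI := (pullbackPushforwardAdjunction b).left_adjoint_additive
  have hG : sqMap (j0.{u} τ) b a w.symm (qC ρ) = (Scheme.Modules.pullback b).map (qC τ) ≫
      (M2.freeModPullbackIso b k).hom ≫ MatHom.hom (((m0.{u} ρ).map a.appTop).submatrix id τ) ≫
        (M2.freeModPullbackIso a k).inv := by
    have h1 : (Scheme.Modules.pullback a).map (qC ρ) =
        ((pullbackComp a (j0.{u} ρ)).hom.app _ ≫ (M2.freeModPullbackIso (a ≫ j0 ρ) N).hom) ≫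
          MatHom.pull a (MatHom.hom (m0 ρ)) ≫ (M2.freeModPullbackIso a k).inv := by
      have h := freeModPullbackIso_comp a (j0.{u} ρ) rfl N
      rw [show (ModLimH13.cmp a (j0.{u} ρ) rfl).hom.app (FlatMod.freeMod (Gr0.{u} N k) N) =
        (pullbackComp a (j0.{u} ρ)).hom.app _ from Category.comp_id _] at h
      rw [h, qC, Functor.map_comp, MatHom.pull]
      simp
    have h2 : MatHom.pull a (MatHom.hom (m0 ρ)) =
        MatHom.pull b (MatHom.hom (m0 τ)) ≫ MatHom.hom (((m0.{u} ρ).map a.appTop).submatrix id τ) := by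
      refine mat_injective ?_
      rw [mat_comp, mat_pull, mat_pull, mat_hom, mat_hom, mat_hom]
      exact m0_change hk τ ρ b a w.symm
    have h3 := freeModPullbackIso_comp b (j0.{u} τ) w.symm N
    rw [sqMap, h1, Category.assoc, Iso.inv_hom_id_app_assoc, reassoc_of% h3, h2, qC, Functor.map_comp, MatHom.pull]
    simp
  have h0 : (Scheme.Modules.pullback b).map (kernel.ι (qC τ)) ≫ sqMap (j0.{u} τ) b a w.symm (qC ρ) = 0 := by
    rw [hG, ← Functor.map_comp_assoc, kernel.condition, Functor.map_zero, zero_comp]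
  rw [h0, Adjunction.homEquiv_unit, Functor.map_zero, comp_zero]

/-- On a chart the universal quotient is free. -/
theorem exists_qu_chart (hk : k ≤ N) (τ : Fin k ↪ Fin N) :
    ∃ e : (Scheme.Modules.pullback (j0.{u} τ)).obj (Qu.{u} N k) ≅ FlatMod.freeMod (U0.{u} τ) k,
      (Scheme.Modules.pullback (j0.{u} τ)).map (qu N k) ≫ e.hom = qC τ := by
  let F := Scheme.Modules.pullback (j0.{u} τ)
  haveI := (pullbackPushforwardAdjunction (j0.{u} τ)).leftAdjoint_preservesColimits.{0, 0}
  haveI : F.Additive := (pullbackPushforwardAdjunction (j0.{u} τ)).left_adjoint_additive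
  haveI : PreservesFiniteLimits F :=
    preservesFiniteLimits_of_natIso (Scheme.Modules.restrictFunctorIsoPullback (j0.{u} τ))
  haveI := epi_qC.{u} τ
  have hzero : F.map (kernel.ι (Θ.{u} N k)) ≫ qC τ = 0 := by
    have h : kernel.ι (Θ.{u} N k) ≫ (pullbackPushforwardAdjunction (j0.{u} τ)).homEquiv _ _ (qC τ) = 0 := by
      have e : Θ.{u} N k ≫ biproduct.π _ τ =
          (pullbackPushforwardAdjunction (j0.{u} τ)).homEquiv _ _ (qC τ) := biproduct.lift_π _ _
      rw [← e, kernel.condition_assoc, zero_comp]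
    rw [← ((pullbackPushforwardAdjunction (j0.{u} τ)).homEquiv _ _).apply_eq_iff_eq,
      Adjunction.homEquiv_naturality_left, h, Adjunction.homEquiv_unit, Functor.map_zero, comp_zero]
  have hw : kernel.ι (qC τ) ≫ F.map (Θ.{u} N k) = 0 := by
    rw [Θ, biproduct.lift_eq, Functor.map_sum, Preadditive.comp_sum]
    exact Finset.sum_eq_zero fun ρ _ => by
      rw [Functor.map_comp, reassoc_of% (kernel_comp_map.{u} hk ρ τ), zero_comp]
  let S : ShortComplex (U0.{u} τ).Modules :=
    ShortComplex.mk (F.map (kernel.ι (Θ.{u} N k))) (qC τ) hzero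
  have hS : S.Exact := by
    rw [S.exact_iff_exact_up_to_refinements]
    intro A x hx
    let x' := kernel.lift (qC τ) x hx
    refine ⟨A, 𝟙 A, inferInstance, (x' ≫ kernel.lift (F.map (Θ.{u} N k)) (kernel.ι (qC τ)) hw) ≫
      (PreservesKernel.iso F (Θ.{u} N k)).inv, ?_⟩
    show 𝟙 A ≫ x = _ ≫ F.map (kernel.ι (Θ.{u} N k))
    rw [Category.assoc, ← (PreservesKernel.iso_inv_ι F (Θ.{u} N k)).symm, Category.assoc, kernel.lift_ι, kernel.lift_ι,
      Category.id_comp]
  haveI : Epi S.g := epi_qC.{u} τ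
  exact ⟨(PreservesCokernel.iso F (kernel.ι (Θ.{u} N k))) ≪≫
    IsColimit.coconePointUniqueUpToIso (cokernelIsCokernel _) hS.gIsCokernel, by
      rw [Iso.trans_hom, ← Category.assoc, qu, PreservesCokernel.π_iso_hom]
      exact IsColimit.comp_coconePointUniqueUpToIso_hom (cokernelIsCokernel _) hS.gIsCokernel WalkingParallelPair.one⟩

end Groth.Agent.Quot18.GrC
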