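import Groth.Agent.Lib.Quot18.GrQuot
import Groth.Agent.Lib.PairIso.Tilde
import Groth.Agent.Lib.ZeroLocus10.Proj
import Groth.Agent.Lib.DGen9.Spec
import Groth.Agent.Lib.TensorMod.PullSupport

/-!
# The universal property of the Grassmannian over the integers
-/

set_option autoImplicit false
set_option linter.style.haveILetI false
set_option backward.isDefEq.respectTransparency false
set_option backward.isDefEq.respectTransparency.types false
set_option maxHeartbeats 1600000

universe u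

open CategoryTheory CategoryTheory.Limits AlgebraicGeometry Scheme.Modules TopologicalSpace

namespace Groth.Agent.Quot18.GrC

open Groth.Agent Groth.Agent.GrassLib MatHom

attribute [local irreducible] ChartSet.pt

variable {N k : ℕ}

/-- The coordinate subspace of a chart. -/
noncomputable def sel (σ : Fin k ↪ Fin N) (T : Scheme.{u}) : FlatMod.freeMod T k ⟶ FlatMod.freeMod T N :=
  MatHom.hom ((1 : Matrix (Fin N) (Fin N) Γ(T, ⊤)).submatrix id σ)

theorem mat_sel_comp (σ : Fin k ↪ Fin N) {T : Scheme.{u}} {b : ℕ} (φ : FlatMod.freeMod T N ⟶ FlatMod.freeMod T b) :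
    mat (sel σ T ≫ φ) = (mat φ).submatrix id σ := by
  rw [mat_comp, sel, mat_hom]
  ext i l
  simp [Matrix.mul_apply, Matrix.one_apply]

theorem pull_sel {T T' : Scheme.{u}} (h : T' ⟶ T) (σ : Fin k ↪ Fin N) :
    MatHom.pull h (sel σ T) = sel σ T' := by
  refine mat_injective ?_
  rw [mat_pull, sel, sel, mat_hom, mat_hom]
  ext i l
  simp only [Matrix.map_apply, Matrix.submatrix_apply, Matrix.one_apply, id]
  split
  · exact map_one _
  · exact map_zero _

/-- A quotient of the free module, pulled back. -/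
noncomputable def pullQ {T T' : Scheme.{u}} (h : T' ⟶ T) {L : T.Modules} (s : FlatMod.freeMod T N ⟶ L) :
    FlatMod.freeMod T' N ⟶ (Scheme.Modules.pullback h).obj L :=
  (M2.freeModPullbackIso h N).inv ≫ (Scheme.Modules.pullback h).map s

theorem epi_pullQ {T T' : Scheme.{u}} (h : T' ⟶ T) {L : T.Modules} (s : FlatMod.freeMod T N ⟶ L) [Epi s] :
    Epi (pullQ h s) := by
  haveI := Grass.epi_pullback_map h s
  exact epi_comp _ _

theorem sel_pullQ {T T' : Scheme.{u}} (h : T' ⟶ T) (σ : Fin k ↪ Fin N) {L : T.Modules}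
    (s : FlatMod.freeMod T N ⟶ L) :
    sel σ T' ≫ pullQ h s = (M2.freeModPullbackIso h k).inv ≫ (Scheme.Modules.pullback h).map (sel σ T ≫ s) := by
  rw [← pull_sel h, MatHom.pull, pullQ]
  simp

theorem pullQ_comp {T T' T'' : Scheme.{u}} (h : T' ⟶ T) (h' : T'' ⟶ T') {h'' : T'' ⟶ T} (w : h' ≫ h = h'')
    {L : T.Modules} (s : FlatMod.freeMod T N ⟶ L) :
    pullQ h' (pullQ h s) ≫ (ModLimH13.cmp h' h w).hom.app L = pullQ h'' s := by
  have n := (ModLimH13.cmp h' h w).hom.naturality s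
  simp only [Functor.comp_map] at n
  rw [pullQ, pullQ, pullQ, Functor.map_comp, Category.assoc, Category.assoc, n,
    ← cancel_epi ((M2.freeModPullbackIso h' N).hom), Iso.hom_inv_id_assoc]
  have h3 := freeModPullbackIso_comp h' h w N
  rw [← cancel_epi ((Scheme.Modules.pullback h').map (M2.freeModPullbackIso h N).hom), ← Functor.map_comp_assoc,
    Iso.hom_inv_id, CategoryTheory.Functor.map_id, Category.id_comp, ← reassoc_of% h3, Iso.hom_inv_id_assoc]

/-- The points where a block of a quotient map is surjective. -/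
noncomputable def locus {T : Scheme.{u}} {L : T.Modules} (σ : Fin k ↪ Fin N) (s : FlatMod.freeMod T N ⟶ L) : Set T :=
  (CohB1.support (cokernel (sel σ T ≫ s)))ᶜ

variable {T T' : Scheme.{u}} {L : T.Modules}

theorem coker_qcoh_ft (hL : FlatMod.IsFinLocFreeOfRank k L) (φ : FlatMod.freeMod T k ⟶ L) :
    Coh.IsQCoh (cokernel φ) ∧ CohB1.IsFT (cokernel φ) :=
  have hfp : ∀ {M : T.Modules}, FlatMod.IsFinLocFreeOfRank k M → CohB1.IsFP M := fun {M} h =>
    M1.isFP_of_isFinLocFree fun x => by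
      obtain ⟨U, hx, e⟩ := h x
      exact ⟨U, k, hx, e⟩
  ⟨M1.isQCoh_cokernel (M1.isFP_isQCoh (hfp (M2.isFinLocFreeOfRank_freeMod T k))) (M1.isFP_isQCoh (hfp hL)) φ,
    M1.isFT_of_epi (cokernel.π φ) (M1.isFP_isFT (hfp hL))⟩

theorem isOpen_locus (hL : FlatMod.IsFinLocFreeOfRank k L) (σ : Fin k ↪ Fin N) (s : FlatMod.freeMod T N ⟶ L) :
    IsOpen (locus σ s) :=
  (M1.isClosed_support (coker_qcoh_ft hL _).2).isOpen_compl

theorem locus_pullQ (hL : FlatMod.IsFinLocFreeOfRank k L) (h : T' ⟶ T) (σ : Fin k ↪ Fin N)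
    (s : FlatMod.freeMod T N ⟶ L) : locus σ (pullQ h s) = h ⁻¹' locus σ s := by
  haveI := (pullbackPushforwardAdjunction h).leftAdjoint_preservesColimits.{0, 0}
  haveI := (pullbackPushforwardAdjunction h).left_adjoint_additive
  rw [locus, locus, Set.preimage_compl]
  refine congrArg compl ?_
  rw [DGen9.support_iso (cokernelIsoOfEq (sel_pullQ h σ s) ≪≫ cokernelEpiComp _ _ ≪≫
      (PreservesCokernel.iso (Scheme.Modules.pullback h) _).symm),
    M2.support_pullback h (coker_qcoh_ft hL _).1 (coker_qcoh_ft hL _).2]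

theorem locus_comp_iso {L' : T.Modules} (σ : Fin k ↪ Fin N) (s : FlatMod.freeMod T N ⟶ L) (e : L ≅ L') :
    locus σ (s ≫ e.hom) = locus σ s := by
  rw [locus, locus, DGen9.support_iso (cokernelIsoOfEq (Category.assoc _ _ _).symm ≪≫
    cokernelCompIsIso (sel σ T ≫ s) e.hom)]

theorem isIso_of_locus_eq_univ (hL : FlatMod.IsFinLocFreeOfRank k L) (σ : Fin k ↪ Fin N)
    (s : FlatMod.freeMod T N ⟶ L) (h : locus σ s = Set.univ) : IsIso (sel σ T ≫ s) := by
  haveI : Epi (sel σ T ≫ s) := Preadditive.epi_of_isZero_cokernel _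
    (SerreCl8.isZero_of_support_eq_empty (by rwa [locus, Set.compl_univ_iff] at h))
  exact PairIso.isIso_of_epi_rank (M2.isFinLocFreeOfRank_freeMod T k) hL _

theorem locus_eq_univ_of_isIso (σ : Fin k ↪ Fin N) (s : FlatMod.freeMod T N ⟶ L) [IsIso (sel σ T ≫ s)] :
    locus σ s = Set.univ := by
  rw [locus, Set.compl_univ_iff]
  refine Set.eq_empty_of_forall_notMem fun x hx => hx ?_
  exact AddCommGrpCat.subsingleton_of_isZero ((M1.stalkAb x).map_isZero (isZero_cokernel_of_epi (sel σ T ≫ s)))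

/-- On the charts the universal quotient is the tautological one. -/
theorem exists_pullQ_qu (hk : k ≤ N) (τ : Fin k ↪ Fin N) :
    ∃ e : (Scheme.Modules.pullback (j0.{u} τ)).obj (Qu.{u} N k) ≅ FlatMod.freeMod (U0.{u} τ) k,
      pullQ (j0 τ) (qu N k) ≫ e.hom = MatHom.hom (m0 τ) := by
  obtain ⟨e, he⟩ := exists_qu_chart.{u} hk τ
  exact ⟨e, by rw [pullQ, Category.assoc, he, qC, Iso.inv_hom_id_assoc]⟩

theorem rank_qu (hk : k ≤ N) : FlatMod.IsFinLocFreeOfRank k (Qu.{u} N k) := by
  intro p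
  obtain ⟨τ, q, hq⟩ := exists_mem_range_j RZ.{u} (N := N) (k := k) p
  obtain ⟨e, -⟩ := exists_qu_chart.{u} hk τ
  let U := (j0.{u} τ).opensRange
  let i : (U : Scheme.{u}) ≅ U0 τ := (j0.{u} τ).isoOpensRange.symm
  have hi : i.hom ≫ j0 τ = U.ι := (j0.{u} τ).isoOpensRange_inv_comp
  exact ⟨U, ⟨q, hq⟩, ⟨(Scheme.Modules.restrictFunctorIsoPullback U.ι).app _ ≪≫ (pullbackCongr hi.symm).app _ ≪≫
    ((pullbackComp i.hom (j0.{u} τ)).app _).symm ≪≫ (Scheme.Modules.pullback i.hom).mapIso e ≪≫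
      M2.freeModPullbackIso i.hom k⟩⟩

/-- The locus of a block on the Grassmannian is the chart. -/
theorem locus_qu (hk : k ≤ N) (σ : Fin k ↪ Fin N) : locus σ (qu.{u} N k) = Set.range (j0.{u} σ) := by
  refine Set.Subset.antisymm (fun p hp => ?_) ?_
  · obtain ⟨τ, q, rfl⟩ := exists_mem_range_j RZ.{u} (N := N) (k := k) p
    obtain ⟨e, he⟩ := exists_pullQ_qu.{u} hk τ
    have hq : q ∈ locus σ (MatHom.hom (m0.{u} τ)) := by
      rw [← he, locus_comp_iso, locus_pullQ (rank_qu hk)]
      exact hp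
    have hfree : FlatMod.IsFinLocFreeOfRank k (FlatMod.freeMod (U0.{u} τ) k) :=
      M2.isFinLocFreeOfRank_freeMod _ k
    let O : (U0.{u} τ).Opens := ⟨locus σ (MatHom.hom (m0.{u} τ)), isOpen_locus hfree σ _⟩
    have hO : IsIso (sel σ (O : Scheme.{u}) ≫ pullQ O.ι (MatHom.hom (m0.{u} τ))) := by
      refine isIso_of_locus_eq_univ (M2.isFinLocFreeOfRank_pullback O.ι hfree) σ _ ?_
      rw [locus_pullQ hfree]
      exact Set.eq_univ_of_forall fun x => x.2
    haveI := hO
    have hdet := isUnit_det ((sel σ (O : Scheme.{u}) ≫ pullQ O.ι (MatHom.hom (m0.{u} τ))) ≫ (M2.freeModPullbackIso O.ι k).hom)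
    have hm : mat ((sel σ (O : Scheme.{u}) ≫ pullQ O.ι (MatHom.hom (m0.{u} τ))) ≫ (M2.freeModPullbackIso O.ι k).hom) =
        ((m0.{u} τ).submatrix id σ).map O.ι.appTop := by
      rw [pullQ, Category.assoc, Category.assoc, mat_sel_comp]
      rw [show (M2.freeModPullbackIso O.ι N).inv ≫ (Scheme.Modules.pullback O.ι).map (MatHom.hom (m0.{u} τ)) ≫
        (M2.freeModPullbackIso O.ι k).hom = MatHom.pull O.ι (MatHom.hom (m0.{u} τ)) from rfl, mat_pull, mat_hom,
        Matrix.submatrix_map]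
    rw [hm, ← RingHom.mapMatrix_apply, ← RingHom.map_det] at hdet
    have htop : O.ι ⁻¹ᵁ (U0.{u} τ).basicOpen ((m0.{u} τ).submatrix id σ).det = ⊤ := by
      rw [Scheme.Hom.preimage_basicOpen_top]
      exact Scheme.basicOpen_of_isUnit _ hdet
    have hqb : q ∈ (U0.{u} τ).basicOpen ((m0.{u} τ).submatrix id σ).det := by
      have := (htop.ge (x := ⟨q, hq⟩) trivial)
      exact this
    refine mem_range_j RZ.{u} σ τ q ?_
    rw [m0, Matrix.submatrix_map, ← RingHom.mapMatrix_apply, ← RingHom.map_det] at hqb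
    erw [AlgebraicGeometry.basicOpen_eq_of_affine] at hqb
    exact hqb
  · rintro _ ⟨q, rfl⟩
    obtain ⟨e, he⟩ := exists_pullQ_qu.{u} hk σ
    show q ∈ j0.{u} σ ⁻¹' locus σ (qu.{u} N k)
    rw [← locus_pullQ (rank_qu hk), ← locus_comp_iso σ _ e, he]
    haveI : IsIso (sel σ (U0.{u} σ) ≫ MatHom.hom (m0.{u} σ)) := by
      have : sel σ (U0.{u} σ) ≫ MatHom.hom (m0.{u} σ) = 𝟙 _ := mat_injective (by
        rw [mat_sel_comp, mat_hom, m0_block, mat_id])
      rw [this]
      infer_instance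
    rw [locus_eq_univ_of_isIso]
    trivial

theorem mat_zero (T : Scheme.{u}) (a b : ℕ) : mat (0 : FlatMod.freeMod T a ⟶ FlatMod.freeMod T b) = 0 := by
  ext i l
  rw [mat, Matrix.of_apply, zero_comp, comp_zero, val_zero]
  rfl

/-- A surjection of free modules over a field is invertible on some block. -/
theorem exists_block {K : Type u} [Field K]
    (ψ : FlatMod.freeMod (Spec (CommRingCat.of K)) N ⟶ FlatMod.freeMod (Spec (CommRingCat.of K)) k) [Epi ψ] :
    ∃ σ : Fin k ↪ Fin N, IsIso (sel σ (Spec (CommRingCat.of K)) ≫ ψ) := by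
  classical
  let F : Type u := Γ(Spec (CommRingCat.of K), ⊤)
  letI : Field F := ((Scheme.ΓSpecIso (CommRingCat.of K)).commRingCatIsoToRingEquiv.toMulEquiv.isField
    (Field.toIsField K)).toField
  let A : Matrix (Fin k) (Fin N) F := mat ψ
  have hrow : LinearIndependent F A.row := by
    rw [← Matrix.vecMul_injective_iff, ← Matrix.coe_vecMulLinear, injective_iff_map_eq_zero]
    intro v hv
    have h1 : ψ ≫ MatHom.hom (Matrix.of fun (_ : Fin 1) i => v i) = ψ ≫ 0 := by
      rw [comp_zero]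
      refine mat_injective ?_
      rw [mat_comp, mat_hom]
      ext a c
      rw [mat_zero]
      exact congrFun hv c
    have h2 := congrArg mat ((cancel_epi ψ).1 h1)
    rw [mat_hom] at h2
    funext i
    rw [mat_zero] at h2
    exact congrFun (congrFun h2 0) i
  have hrank : Module.finrank F (Submodule.span F (Set.range A.col)) = k := by
    rw [← Matrix.rank_eq_finrank_span_cols, hrow.rank_matrix, Fintype.card_fin]
  obtain ⟨s, hs, hsspan, hsli⟩ := exists_linearIndependent F (Set.range A.col)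
  haveI : Finite s := (Set.finite_range A.col).subset hs
  haveI : Fintype s := Fintype.ofFinite s
  have hcard : Fintype.card s = k := by
    refine (finrank_span_eq_card hsli).symm.trans ?_
    rw [Subtype.range_coe, hsspan]
    exact hrank
  let τ : Fin k ≃ s := (Fintype.equivFinOfCardEq hcard).symm
  choose c hc using fun i : Fin k => hs (τ i).2
  have hinj : Function.Injective c := fun i l hil => τ.injective (Subtype.ext (by rw [← hc i, ← hc l, hil]))
  refine ⟨⟨c, hinj⟩, ?_⟩
  rw [← hom_mat (sel _ _ ≫ ψ)]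
  refine isIso_hom ?_
  rw [mat_sel_comp, ← Matrix.isUnit_iff_isUnit_det]
  refine (Matrix.linearIndependent_cols_iff_isUnit (K := F) (A := A.submatrix id c)).1 ?_
  have e : (A.submatrix id c).col = fun i => ((τ i : s) : Fin k → F) := funext fun i => hc i
  rw [e]
  exact hsli.comp τ τ.injective

/-- Every point lies in the locus of some block. -/
theorem exists_mem_locus (hL : FlatMod.IsFinLocFreeOfRank k L) (s : FlatMod.freeMod T N ⟶ L) [Epi s] (t : T) :
    ∃ σ : Fin k ↪ Fin N, t ∈ locus σ s := by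
  obtain ⟨U, htU, ⟨e⟩⟩ := hL t
  let e' : (Scheme.Modules.pullback U.ι).obj L ≅ FlatMod.freeMod (U : Scheme.{u}) k :=
    ((Scheme.Modules.restrictFunctorIsoPullback U.ι).app L).symm ≪≫ e
  let κ : Type u := (U : Scheme.{u}).residueField ⟨t, htU⟩
  let x := (U : Scheme.{u}).fromSpecResidueField ⟨t, htU⟩
  haveI := epi_pullQ U.ι s
  haveI := epi_pullQ x (pullQ U.ι s)
  let ψ : FlatMod.freeMod (Spec ((U : Scheme.{u}).residueField ⟨t, htU⟩)) N ⟶
      FlatMod.freeMod (Spec ((U : Scheme.{u}).residueField ⟨t, htU⟩)) k :=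
    pullQ x (pullQ U.ι s) ≫ (Scheme.Modules.pullback x).map e'.hom ≫ (M2.freeModPullbackIso x k).hom
  haveI : Epi ψ := epi_comp _ _
  obtain ⟨σ, hσ⟩ := exists_block (K := κ) ψ
  refine ⟨σ, ?_⟩
  have hz : (IsLocalRing.closedPoint κ : Spec ((U : Scheme.{u}).residueField ⟨t, htU⟩)) ∈ locus σ ψ := by
    haveI := hσ
    rw [locus_eq_univ_of_isIso]
    trivial
  rw [show ψ = pullQ x (pullQ U.ι s) ≫ ((Scheme.Modules.pullback x).mapIso e' ≪≫ M2.freeModPullbackIso x k).hom from rfl,
    locus_comp_iso, locus_pullQ (M2.isFinLocFreeOfRank_pullback U.ι hL), locus_pullQ hL] at hz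
  have ex : x (IsLocalRing.closedPoint κ) = (⟨t, htU⟩ : U) := (U : Scheme.{u}).fromSpecResidueField_apply _ _
  simpa [ex] using hz

end Groth.Agent.Quot18.GrC
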