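import Groth.Agent.Lib.Quot18.Gen
import Groth.Agent.Lib.Quot18.FieldReg
import Groth.Agent.Lib.CMReg18.HilbPn
import Groth.Agent.Lib.CMReg18.FlatGood
import Groth.Agent.Lib.CMReg18.FibHilb
import Groth.Agent.Lib.CMReg18.PullVan
import Groth.Agent.Lib.DPerf.RelAmp
import Groth.Agent.S0844

/-!
# Sections generating a sum of twists universally
-/

set_option autoImplicit false
set_option linter.style.haveILetI false
set_option backward.isDefEq.respectTransparency false
set_option maxHeartbeats 1600000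

universe u

open CategoryTheory CategoryTheory.Limits AlgebraicGeometry Scheme.Modules

namespace Groth.Agent.Quot18

open Groth.Agent Groth.Agent.CMReg18

variable (n p : ℕ)

/-- The sum of `p` twists by `e`. -/
noncomputable abbrev Tws (e : ℤ) (S : Scheme.{u}) : (CohB1.ProjSpaceOver n S).Modules :=
  ∐ fun _ : Fin p => _root_.Twist.twistOver n S e

theorem isFlatOver_tws (e : ℤ) (S : Scheme.{u}) : FlatMod.IsFlatOver (CohB1.ProjSpaceOver.toBase n S) (Tws n p e S) := by
  refine isFlatOver_congr _ (M2.freeModTensorIso _ p _)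
    (FlatTwist13.isFlatOver_tensor _ ?_ (Twist.isInvertible_twistOver n S e))
  refine DPerf.isFlatOver_of_isFlat _ (KFlat.Sch.isFlat_of_isFinLocFree fun x => ?_)
  obtain ⟨U, hx, h⟩ := M2.isFinLocFreeOfRank_freeMod (CohB1.ProjSpaceOver n S) p x
  exact ⟨U, p, hx, h⟩

theorem isFP_tws (e : ℤ) (S : Scheme.{u}) : CohB1.IsFP (Tws n p e S) :=
  M1.isFP_of_isIso (M2.freeModTensorIso _ p _) (isFP_tensor_inv (M1.isFP_of_isFinLocFree fun x => by
    obtain ⟨U, hx, h⟩ := M2.isFinLocFreeOfRank_freeMod (CohB1.ProjSpaceOver n S) p x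
    exact ⟨U, p, hx, h⟩) (Twist.isInvertible_twistOver n S e))

theorem nonempty_pullback_tws {Y S' : Scheme.{u}} (g : Y ⟶ CohB1.ProjSpaceOver n S') (e : ℤ) {M : Y.Modules}
    (h : Nonempty ((Scheme.Modules.pullback g).obj (_root_.Twist.twistOver n S' e) ≅ M)) :
    Nonempty ((Scheme.Modules.pullback g).obj (Tws n p e S') ≅ ∐ fun _ : Fin p => M) := by
  obtain ⟨i⟩ := h
  haveI := (pullbackPushforwardAdjunction g).leftAdjoint_preservesColimits.{0, 0}
  exact ⟨PreservesCoproduct.iso (Scheme.Modules.pullback g) _ ≪≫ Sigma.mapIso fun _ => i⟩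

/-- The fibres of a base change of projective space are projective spaces. -/
theorem exists_fibre_iso {S Y T : Scheme.{u}} {φ : T ⟶ S} {g' : Y ⟶ CohB1.ProjSpaceOver n S} {f' : Y ⟶ T}
    (h : IsPullback g' f' (CohB1.ProjSpaceOver.toBase n S) φ) (t : T) :
    ∃ e : f'.fiber t ⟶ CohB1.ProjSpace n (T.residueField t), IsIso e ∧
      e ≫ CohB1.ProjSpace.toSpec n (T.residueField t) = f'.fiberToSpecResidueField t ∧
      ∀ d : ℤ, Nonempty ((Scheme.Modules.pullback (f'.fiberι t ≫ g')).obj (_root_.Twist.twistOver n S d) ≅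
        ((projData (T.residueField t) n).pullback e).O d) := by
  let ψ : Spec (CommRingCat.of (T.residueField t : Type u)) ⟶ S := T.fromSpecResidueField t ≫ φ
  have hZ : IsPullback (f'.fiberι t ≫ g') (f'.fiberToSpecResidueField t) (CohB1.ProjSpaceOver.toBase n S) ψ :=
    (IsPullback.of_hasPullback f' (T.fromSpecResidueField t)).paste_horiz h
  have hP := isPullback_pjMap n (R := (T.residueField t : Type u)) ψ
  let e := hZ.isoIsPullback _ _ hP
  have he1 : e.hom ≫ pjMap n (R := (T.residueField t : Type u)) ψ = f'.fiberι t ≫ g' := hZ.isoIsPullback_hom_fst _ _ hP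
  refine ⟨e.hom, inferInstance, hZ.isoIsPullback_hom_snd _ _ hP, fun d => ?_⟩
  obtain ⟨i⟩ := nonempty_pjMap_twistOver n (R := (T.residueField t : Type u)) ψ d
  exact ⟨(pullbackCongr he1.symm).app _ ≪≫ ((pullbackComp e.hom _).app _).symm ≪≫
    (Scheme.Modules.pullback e.hom).mapIso i⟩

/-- The twists have no first cohomology on the fibres. -/
theorem subsingleton_fiberH_tws {e : ℤ} (he : 0 ≤ e) (S : Scheme.{u}) (s : S) :
    Subsingleton (CohIII.fiberH (CohB1.ProjSpaceOver.toBase n S) (Tws n p e S) s 1) := by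
  let π := CohB1.ProjSpaceOver.toBase n S
  letI : (π.fiber s).Over (Spec (CommRingCat.of (S.residueField s))) := ⟨π.fiberToSpecResidueField s⟩
  obtain ⟨a, ha, hak, htw⟩ := exists_fibre_iso n (IsPullback.of_horiz_isIso (fst := 𝟙 _) (g := 𝟙 S) ⟨by simp⟩ :
    IsPullback (𝟙 _) π π (𝟙 S)) s
  haveI := ha
  have h1 : Nonempty ((Scheme.Modules.pullback (π.fiberι s)).obj (_root_.Twist.twistOver n S e) ≅
      ((projData (S.residueField s) n).pullback a).O e) := by
    obtain ⟨i⟩ := htw e
    exact ⟨(pullbackCongr (Category.comp_id _).symm).app _ ≪≫ i⟩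
  obtain ⟨i⟩ := nonempty_pullback_tws n p _ e h1
  refine van_iso (S.residueField s) i.symm (van_sigma (S.residueField s) _ fun _ => ?_)
  have hq := Twist.isQCoh_twistProjSpace n (S.residueField s) e
  haveI : IsIso ((pullbackPushforwardAdjunction a).unit.app (_root_.Twist.twistProjSpace n (S.residueField s) e)) :=
    M1.isIso_unit_of_ker_smul a _ hq fun U b hb x => by
      rw [Scheme.Hom.ker_apply, RingHom.mem_ker] at hb
      have h0 : b = 0 := (ConcreteCategory.bijective_of_isIso (a.app U.1)).1 (hb.trans (map_zero _).symm)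
      rw [h0, zero_smul]
  obtain ⟨j⟩ := AmpleFin18.nonempty_HH_push (k := S.residueField s) a hak _ (M1.isQCoh_pullback a hq) 1
  have h0 := van_iso (S.residueField s) (asIso ((pullbackPushforwardAdjunction a).unit.app
    (_root_.Twist.twistProjSpace n (S.residueField s) e))) (S0844.result (S.residueField s) n e 1 (by omega) (by omega))
  exact @Equiv.subsingleton _ _ j.symm.toEquiv h0

/-- A twist by a nonnegative integer is generated by sections which stay generating after every base change. -/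
theorem exists_free_sections {e : ℤ} (he : 0 ≤ e) :
    ∃ N : ℕ, ∀ S : Scheme.{u},
      ∃ σ : (Scheme.Modules.pullback (CohB1.ProjSpaceOver.toBase n S)).obj (FlatMod.freeMod S N) ⟶ Tws n p e S,
        Epi ((pullbackPushforwardAdjunction (CohB1.ProjSpaceOver.toBase n S)).homEquiv _ _ σ) := by
  let S₀ : Scheme.{u} := Spec (CommRingCat.of (ULift.{u} ℤ))
  let π₀ := CohB1.ProjSpaceOver.toBase n S₀
  haveI : IsNoetherianRing (ULift.{u} ℤ) := isNoetherianRing_of_ringEquiv ℤ ULift.ringEquiv.symm
  haveI : IsNoetherian S₀ := inferInstanceAs (IsNoetherian (Spec (CommRingCat.of (ULift.{u} ℤ))))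
  have hA : Coh.IsCoh (Tws n p e S₀) :=
    haveI : IsLocallyNoetherian (CohB1.ProjSpaceOver n S₀) := LocallyOfFiniteType.isLocallyNoetherian π₀
    (M1.isCoh_iff_isFP _).2 (isFP_tws n p e S₀)
  obtain ⟨N, ψ, hψ⟩ := exists_epi_free_affine (isCoh_push π₀ hA)
  refine ⟨N, fun S => ?_⟩
  let t : S ⟶ S₀ := specULiftZIsTerminal.from S
  have sq := isPullback_projMap n t
  obtain ⟨i⟩ := nonempty_pullback_tws n p _ e (nonempty_pullback_twistOver n t e)
  let j := M2.freeModPullbackIso t N
  let σ₀ := ((pullbackPushforwardAdjunction π₀).homEquiv _ _).symm ψ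
  let π := CohB1.ProjSpaceOver.toBase n S
  let σ₁ : (Scheme.Modules.pullback π).obj ((Scheme.Modules.pullback t).obj (FlatMod.freeMod S₀ N)) ⟶
      (Scheme.Modules.pullback (FGA.projMap n t)).obj (Tws n p e S₀) :=
    sqMap t π (FGA.projMap n t) sq.w.symm σ₀
  haveI : Epi ((pullbackPushforwardAdjunction π).homEquiv _ _ σ₁) :=
    epi_homEquiv_sqMap (isFP_tws n p e S₀) (isFlatOver_tws n p e S₀) (subsingleton_fiberH_tws n p he S₀) σ₀
      (by rw [Equiv.apply_symm_apply]; exact hψ) sq
  refine ⟨(Scheme.Modules.pullback π).map j.inv ≫ σ₁ ≫ i.hom, ?_⟩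
  rw [Adjunction.homEquiv_naturality_left, Adjunction.homEquiv_naturality_right]
  infer_instance

end Groth.Agent.Quot18
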