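import Groth.Agent.Lib.QuotExt3.Pull

/-!
# Quotients described by modules of relations on the base
-/

set_option autoImplicit false
set_option linter.style.haveILetI false
set_option backward.isDefEq.respectTransparency.types false
set_option maxHeartbeats 800000

universe u

open CategoryTheory CategoryTheory.Limits AlgebraicGeometry Scheme.Modules

namespace Groth.Agent.Quot18

open Groth.Agent Groth.Agent.QuotExt3 ModLimH13

theorem cmp_congr_left {X' W S : Scheme.{u}} {P₁ P₂ : W ⟶ X'} (hP : P₁ = P₂) {t : X' ⟶ S} {h : W ⟶ S}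
    (w₁ : P₁ ≫ t = h) (w₂ : P₂ ≫ t = h) (V : S.Modules) :
    (pullbackCongr hP).hom.app ((Scheme.Modules.pullback t).obj V) ≫ (ModLimH13.cmp P₂ t w₂).hom.app V =
      (ModLimH13.cmp P₁ t w₁).hom.app V := by
  subst hP
  exact Category.id_comp _

/-- The comparison map of a commutative square. -/
noncomputable def sqMap {X S T W : Scheme.{u}} {f : X ⟶ S} (t : T ⟶ S) (P : W ⟶ T) (p : W ⟶ X) (w : P ≫ t = p ≫ f)
    {V : S.Modules} {E : X.Modules} (σ : (Scheme.Modules.pullback f).obj V ⟶ E) :
    (Scheme.Modules.pullback P).obj ((Scheme.Modules.pullback t).obj V) ⟶ (Scheme.Modules.pullback p).obj E :=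
  (cmp P t w).hom.app V ≫ (pullbackComp p f).inv.app V ≫ (Scheme.Modules.pullback p).map σ

/-- The comparison maps are compatible with pullback. -/
theorem sqMap_pull {X S T T' W W' : Scheme.{u}} {f : X ⟶ S} {t : T ⟶ S} {P : W ⟶ T} {p : W ⟶ X}
    (w : P ≫ t = p ≫ f) {t' : T' ⟶ S} {P' : W' ⟶ T'} {p' : W' ⟶ X} (w' : P' ≫ t' = p' ≫ f)
    (g : T' ⟶ T) (hg : g ≫ t = t') (b : W' ⟶ W) (hb : b ≫ p = p') (hP : P' ≫ g = b ≫ P)
    {V : S.Modules} {E : X.Modules} (σ : (Scheme.Modules.pullback f).obj V ⟶ E) :
    (Scheme.Modules.pullback P').map ((cmp g t hg).hom.app V) ≫ sqMap t' P' p' w' σ =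
      (cmp P' g hP).hom.app _ ≫ (pullbackComp b P).inv.app _ ≫
        (Scheme.Modules.pullback b).map (sqMap t P p w σ) ≫ (cmp b p hb).hom.app E := by
  have hq : (P' ≫ g) ≫ t = p' ≫ f := by rw [Category.assoc, hg, w']
  have hq' : (b ≫ P) ≫ t = p' ≫ f := by rw [← hP]; exact hq
  have hbpf : b ≫ p ≫ f = p' ≫ f := by rw [← Category.assoc, hb]
  have c₁ := cocycle P' g t V hg w' hq
  have c₂ := cocycle b P t V w hbpf hq'
  have c₃ : (Scheme.Modules.pullback b).map ((pullbackComp p f).hom.app V) ≫ (cmp b (p ≫ f) hbpf).hom.app V =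
      (cmp b p hb).hom.app _ ≫ (pullbackComp p' f).hom.app V := by
    subst hb
    have h := cocycle b p f V rfl hbpf rfl
    have e : ∀ {Y Z W' : Scheme.{u}} (r : W' ⟶ Y) (g : Y ⟶ Z) (M : Z.Modules),
        (ModLimH13.cmp r g rfl).hom.app M = (pullbackComp r g).hom.app M := fun r g M => Category.comp_id _
    rw [e, e] at h
    rw [e]
    exact h
  have h₄ := cmp_congr_left hP hq hq' V
  have hnat : (Scheme.Modules.pullback b).map ((Scheme.Modules.pullback p).map σ) ≫ (cmp b p hb).hom.app E =
      (cmp b p hb).hom.app _ ≫ (Scheme.Modules.pullback p').map σ := (cmp b p hb).hom.naturality σ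
  simp only [sqMap, Functor.map_comp, Category.assoc]
  rw [reassoc_of% c₁, hnat]
  have h₂ : (Scheme.Modules.pullback b).map ((cmp P t w).hom.app V) =
      (pullbackComp b P).hom.app _ ≫ (cmp (b ≫ P) t hq').hom.app V ≫ (cmp b (p ≫ f) hbpf).inv.app V := by
    rw [← cancel_mono ((cmp b (p ≫ f) hbpf).hom.app V), Category.assoc, Category.assoc, Iso.inv_hom_id_app]
    erw [Category.comp_id]
    exact c₂
  have h₃ : (Scheme.Modules.pullback b).map ((pullbackComp p f).inv.app V) =
      (cmp b (p ≫ f) hbpf).hom.app V ≫ (pullbackComp p' f).inv.app V ≫ (cmp b p hb).inv.app _ := by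
    rw [← cancel_epi ((Scheme.Modules.pullback b).map ((pullbackComp p f).hom.app V)), ← Functor.map_comp,
      Iso.hom_inv_id_app, reassoc_of% c₃]
    simp
  rw [h₂, h₃]
  simp only [Category.assoc, Iso.inv_hom_id_app_assoc]
  rw [show (ModLimH13.cmp P' g hP).hom.app ((Scheme.Modules.pullback t).obj V) =
    (pullbackComp P' g).hom.app _ ≫ (pullbackCongr hP).hom.app _ from rfl]
  simp only [Category.assoc, Iso.hom_inv_id_app_assoc, Iso.inv_hom_id_app_assoc]
  rw [reassoc_of% h₄]

variable {X S : Scheme.{u}} (f : X ⟶ S) {E : X.Modules} {V : S.Modules}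
  (σ : (Scheme.Modules.pullback f).obj V ⟶ E)

/-- The image in `E_T` of a map to the pullback of `V`. -/
noncomputable def rel (T : Over S) {M : T.left.Modules} (α : M ⟶ (Scheme.Modules.pullback T.hom).obj V) :
    (Scheme.Modules.pullback (PicF.XTproj f T)).obj M ⟶ FGA.ET f E T :=
  (Scheme.Modules.pullback (PicF.XTproj f T)).map α ≫
    sqMap T.hom (PicF.XTproj f T) (pullback.fst f T.hom) pullback.condition.symm σ

/-- The pullback of a map to the pullback of `V`. -/
noncomputable def move {T T' : Over S} (g : T' ⟶ T) {M : T.left.Modules}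
    (α : M ⟶ (Scheme.Modules.pullback T.hom).obj V) :
    (Scheme.Modules.pullback g.left).obj M ⟶ (Scheme.Modules.pullback T'.hom).obj V :=
  (Scheme.Modules.pullback g.left).map α ≫ (cmp g.left T.hom (Over.w g)).hom.app V

theorem rel_move {T T' : Over S} (g : T' ⟶ T) {M : T.left.Modules}
    (α : M ⟶ (Scheme.Modules.pullback T.hom).obj V) :
    ∃ e : (Scheme.Modules.pullback (PicF.XTproj f T')).obj ((Scheme.Modules.pullback g.left).obj M) ≅
        (Scheme.Modules.pullback (PicF.XTmap f g)).obj ((Scheme.Modules.pullback (PicF.XTproj f T)).obj M),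
      rel f σ T' (move g α) =
        e.hom ≫ (Scheme.Modules.pullback (PicF.XTmap f g)).map (rel f σ T α) ≫ (FGA.ETiso f E g).hom := by
  have hP : PicF.XTproj f T' ≫ g.left = PicF.XTmap f g ≫ PicF.XTproj f T :=
    ((HilbBC25.isPullback_XTmap f g).w).symm
  refine ⟨(cmp _ _ hP).app M ≪≫ ((pullbackComp _ _).app M).symm, ?_⟩
  have h := sqMap_pull (pullback.condition.symm : PicF.XTproj f T ≫ T.hom = pullback.fst f T.hom ≫ f)
    (pullback.condition.symm : PicF.XTproj f T' ≫ T'.hom = pullback.fst f T'.hom ≫ f) g.left (Over.w g)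
    (PicF.XTmap f g) (FGA.XTmap_fst f g) hP σ
  rw [etiso_hom]
  simp only [rel, move, Functor.map_comp, Category.assoc, Iso.trans_hom, Iso.app_hom, Iso.symm_hom, Iso.app_inv]
  rw [h]
  have n1 := (cmp _ _ hP).hom.naturality α
  have n2 := (pullbackComp (PicF.XTmap f g) (PicF.XTproj f T)).inv.naturality α
  simp only [Functor.comp_map] at n1 n2
  rw [reassoc_of% n1, reassoc_of% n2]

/-- The submodule of relations pulls back. -/
theorem quotPull_rel {T T' : Over S} (g : T' ⟶ T) {M : T.left.Modules}
    (α : M ⟶ (Scheme.Modules.pullback T.hom).obj V) :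
    FGA.quotPull f E g (imageSubobject (rel f σ T α)) = imageSubobject (rel f σ T' (move g α)) := by
  obtain ⟨e, he⟩ := rel_move f σ g α
  rw [he, imageSubobject_epi_comp, FGA.quotPull]
  haveI : Epi ((Scheme.Modules.pullback (PicF.XTmap f g)).map (factorThruImageSubobject (rel f σ T α))) :=
    haveI := (Scheme.Modules.pullbackPushforwardAdjunction (PicF.XTmap f g)).leftAdjoint_preservesColimits
    inferInstance
  conv_rhs => rw [← imageSubobject_arrow_comp (rel f σ T α), Functor.map_comp, Category.assoc, imageSubobject_epi_comp]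

/-- The relations only matter through their image. -/
theorem imageSubobject_rel_congr {T : Over S} {M M' : T.left.Modules}
    {α : M ⟶ (Scheme.Modules.pullback T.hom).obj V} {α' : M' ⟶ (Scheme.Modules.pullback T.hom).obj V}
    (h : imageSubobject α = imageSubobject α') :
    imageSubobject (rel f σ T α) = imageSubobject (rel f σ T α') := by
  have key : ∀ {N : T.left.Modules} (β : N ⟶ (Scheme.Modules.pullback T.hom).obj V),
      imageSubobject (rel f σ T β) = imageSubobject (rel f σ T (imageSubobject β).arrow) := fun β => by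
    haveI : Epi ((Scheme.Modules.pullback (PicF.XTproj f T)).map (factorThruImageSubobject β)) :=
      haveI := (Scheme.Modules.pullbackPushforwardAdjunction (PicF.XTproj f T)).leftAdjoint_preservesColimits
      inferInstance
    conv_lhs => rw [rel, ← imageSubobject_arrow_comp β, Functor.map_comp, Category.assoc, imageSubobject_epi_comp]
    rfl
  rw [key α, key α', h]

/-- The quotient is the cokernel of the relations. -/
theorem nonempty_cokernel_rel {T : Over S} {M : T.left.Modules} (α : M ⟶ (Scheme.Modules.pullback T.hom).obj V) :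
    Nonempty (cokernel (rel f σ T α) ≅ cokernel (imageSubobject (rel f σ T α)).arrow) :=
  ⟨cokernelIsoOfEq (imageSubobject_arrow_comp (rel f σ T α)).symm ≪≫
    cokernelEpiComp (factorThruImageSubobject (rel f σ T α)) (imageSubobject (rel f σ T α)).arrow⟩

/-- The map to the direct image killed by the relations. -/
noncomputable def toPush (T : Over S) {F : (PicF.XT f T).Modules} (q : FGA.ET f E T ⟶ F) :
    (Scheme.Modules.pullback T.hom).obj V ⟶ (Scheme.Modules.pushforward (PicF.XTproj f T)).obj F :=
  (pullbackPushforwardAdjunction (PicF.XTproj f T)).homEquiv _ _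
    (sqMap T.hom (PicF.XTproj f T) (pullback.fst f T.hom) pullback.condition.symm σ ≫ q)

theorem comp_toPush_eq_zero_iff (T : Over S) {F : (PicF.XT f T).Modules} (q : FGA.ET f E T ⟶ F)
    {M : T.left.Modules} (α : M ⟶ (Scheme.Modules.pullback T.hom).obj V) :
    α ≫ toPush f σ T q = 0 ↔ rel f σ T α ≫ q = 0 := by
  rw [toPush, ← Adjunction.homEquiv_naturality_left, rel, Category.assoc]
  haveI := (pullbackPushforwardAdjunction (PicF.XTproj f T)).left_adjoint_additive
  constructor
  · intro h
    apply ((pullbackPushforwardAdjunction (PicF.XTproj f T)).homEquiv M F).injective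
    rw [h, Adjunction.homEquiv_unit, Functor.map_zero, comp_zero]
  · intro h
    rw [h, Adjunction.homEquiv_unit, Functor.map_zero, comp_zero]

end Groth.Agent.Quot18
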