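import Groth.Agent.Lib.CMReg18.ClosedSub

/-!
# Regularity of quotients with a fixed Hilbert polynomial, uniformly in the field
-/

set_option autoImplicit false
set_option linter.style.haveILetI false
set_option backward.isDefEq.respectTransparency false

universe u

open CategoryTheory CategoryTheory.Limits AlgebraicGeometry TopologicalSpace Opposite

namespace Groth.Agent.Quot18

open Groth.Agent Groth.Agent.CMReg18

/-- The Euler characteristics of a sum of twists, independently of the field. -/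
theorem euler_sum_twist_eq {k : Type u} [Field k] {n : ℕ} (p : ℕ) (e r : ℤ) :
    Curv2.euler k (CohB1.ProjSpace n k) ((projData k n).tw (∐ fun _ : Fin p => (projData k n).O e) r) =
      ∑ j : Fin (n + 1), (p * Ring.choose (e + n) (n - (j : ℕ))) * Ring.choose r (j : ℕ) := by
  haveI := isProper_projSpace k (n := n)
  haveI : IsNoetherian (CohB1.ProjSpace n k) :=
    CohFound.isNoetherian_of_isProper (CohB1.ProjSpace n k ↘ Spec (CommRingCat.of k))
  have hc : Coh.IsCoh (∐ fun _ : Fin p => (projData k n).O e) :=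
    CohFound.isCoh_of_iso (M2.freeModTensorIso _ p _) (CurveCoh17.isCoh_tensor
      (CurveCoh17.isCoh_of_ofRank (M2.isFinLocFreeOfRank_freeMod _ p))
      (Snapper.isCoh_of_isInvertible ((projData k n).inv _)))
  have h : Curv2.euler k (CohB1.ProjSpace n k) ((projData k n).tw (∐ fun _ : Fin p => (projData k n).O e) r) =
      p * Curv2.euler k (CohB1.ProjSpace n k) ((projData k n).O (e + r)) := by
    rw [(bdd_proj (isCoh_tw hc r)).euler_eq,
      (bdd_proj (k := k) (n := n) (Snapper.isCoh_of_isInvertible ((projData k n).inv (e + r)))).euler_eq,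
      Finset.mul_sum]
    refine Finset.sum_congr rfl fun q _ => ?_
    rw [finrank_sum_twist]
    push_cast
    ring
  rw [h, euler_twist, show e + r + n = r + (e + n) by ring, Ring.add_choose_eq _ (Commute.all _ _),
    Finset.Nat.sum_antidiagonal_eq_sum_range_succ (fun i l => Ring.choose r i * Ring.choose (e + n) l) n,
    Finset.mul_sum, ← Fin.sum_univ_eq_sum_range]
  exact Finset.sum_congr rfl fun j _ => by ring

/-- Uniform vanishing and generation for quotients of a sum of twists, over all fields. -/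
theorem exists_uniform_reg (n p : ℕ) (ν : ℤ) (Φ : ℕ → ℚ) :
    ∃ M : ℤ, ∀ (k : Type u) [Field k] (F : (CohB1.ProjSpace n k).Modules)
      (q : (∐ fun _ : Fin p => (projData k n).O ν) ⟶ F), Epi q → Coh.IsCoh F →
      (∀ l : ℕ, (Curv2.euler k (CohB1.ProjSpace n k) ((projData k n).tw F (l : ℤ)) : ℚ) = Φ l) →
        ∀ d : ℤ, M ≤ d →
          (∀ i : ℕ, 1 ≤ i → Subsingleton (Coh.HH (CohB1.ProjSpace n k) ((projData k n).tw (kernel q) d) i)) ∧
          (∀ i : ℕ, 1 ≤ i → Subsingleton (Coh.HH (CohB1.ProjSpace n k) ((projData k n).tw F d) i)) ∧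
          Curv2.IsGloballyGenerated ((projData k n).tw (kernel q) d) := by
  obtain ⟨B, hB⟩ := exists_bound.{u} p n
  classical
  let c₀ : Fin (n + 1) → ℤ :=
    if h : ∃ c : Fin (n + 1) → ℤ, ∀ l : ℕ, ((∑ j, c j * Ring.choose (l : ℤ) (j : ℕ) : ℤ) : ℚ) = Φ l
    then h.choose else 0
  let aA : Fin (n + 1) → ℤ := fun j => p * Ring.choose (ν + n) (n - (j : ℕ))
  let G₀ : ℤ → ℤ := fun r => ∑ j, (aA j - c₀ j) * Ring.choose r (j : ℕ)
  let a₀ : Fin (n + 1) → ℤ :=
    if h : ∃ a : Fin (n + 1) → ℤ, ∀ r : ℤ, ∑ j, a j * Ring.choose r (j : ℕ) = G₀ (r - ν)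
    then h.choose else 0
  refine ⟨max (MvPolynomial.eval a₀ B) 1 - ν, fun k _ F q hq hF hΦ => ?_⟩
  haveI := isProper_projSpace k (n := n)
  haveI : IsNoetherian (CohB1.ProjSpace n k) :=
    CohFound.isNoetherian_of_isProper (CohB1.ProjSpace n k ↘ Spec (CommRingCat.of k))
  let D := projData k n
  let A := ∐ fun _ : Fin p => D.O ν
  have hA : Coh.IsCoh A := CohFound.isCoh_of_iso (M2.freeModTensorIso _ p _) (CurveCoh17.isCoh_tensor
    (CurveCoh17.isCoh_of_ofRank (M2.isFinLocFreeOfRank_freeMod _ p)) (Snapper.isCoh_of_isInvertible (D.inv _)))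
  have hG : Coh.IsCoh (kernel q) := CurveCoh17.isCoh_kernel hA hF.1 q
  haveI := hq
  have hS : (ShortComplex.mk (kernel.ι q) q (kernel.condition q)).ShortExact :=
    { exact := ShortComplex.exact_kernel q }
  -- the coefficients of the quotient and of the kernel
  obtain ⟨c, hc⟩ := hasBinom hF
  have hcΦ : ∀ l : ℕ, ((∑ j, c j * Ring.choose (l : ℤ) (j : ℕ) : ℤ) : ℚ) = Φ l := fun l => by rw [← hc, hΦ]
  have hex : ∃ c' : Fin (n + 1) → ℤ, ∀ l : ℕ, ((∑ j, c' j * Ring.choose (l : ℤ) (j : ℕ) : ℤ) : ℚ) = Φ l := ⟨c, hcΦ⟩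
  have hc₀ : c₀ = c := by
    simp only [c₀, dif_pos hex]
    exact binom_unique _ _ fun l => Int.cast_injective (α := ℚ) ((hex.choose_spec l).trans (hcΦ l).symm)
  obtain ⟨aA', haA'⟩ := hasBinom (k := k) hA
  have haA : aA' = aA := by
    obtain ⟨a', ha'⟩ := hasBinom_sum_twist (k := k) (n := n) p ν
    have e : aA' = a' := binom_unique _ _ fun l => (haA' l).symm.trans (ha' l)
    have e' : a' = aA := by
      refine binom_unique _ _ fun l => (ha' l).symm.trans ?_
      exact euler_sum_twist_eq p ν l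
    rw [e, e']
  have hG₀ : ∀ r : ℤ, Curv2.euler k (CohB1.ProjSpace n k) (D.tw (kernel q) r) = G₀ r := fun r => by
    have e := EulerAdd18.euler_add (k := k) (D.shortExact_tw hS r) (N := n)
      (bdd_proj (isCoh_tw hG _)) (bdd_proj (isCoh_tw hA _)) (bdd_proj (isCoh_tw hF _))
    change Curv2.euler k _ (D.tw A r) = Curv2.euler k _ (D.tw (kernel q) r) + Curv2.euler k _ (D.tw F r) at e
    rw [hc, haA', haA, ← hc₀] at e
    simp only [G₀, sub_mul, Finset.sum_sub_distrib]
    linarith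
  -- the kernel twisted into a free module
  let K := D.tw (kernel q) (-ν)
  have hK : Coh.IsCoh K := isCoh_tw hG _
  haveI : Mono ((M2.tensorR (D.O (-ν))).map (kernel.ι q)) := (D.shortExact_tw hS (-ν)).mono_f
  let θ : D.tw A (-ν) ≅ FlatMod.freeMod (CohB1.ProjSpace n k) p :=
    PreservesCoproduct.iso (M2.tensorR (D.O (-ν))) _ ≪≫
      Sigma.mapIso (fun _ => D.add ν (-ν) ≪≫ eqToIso (by rw [add_neg_cancel]) ≪≫ D.zero)
  obtain ⟨a, ha⟩ := hasBinom hK
  have haG : ∀ r : ℤ, ∑ j, a j * Ring.choose r (j : ℕ) = G₀ (r - ν) := fun r => by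
    rw [← ha, ← hG₀]
    exact CurveCoh17.euler_iso (k := k) (D.twTwist _ _ _ ≪≫ D.twIso _ (by ring))
  have hex' : ∃ a' : Fin (n + 1) → ℤ, ∀ r : ℤ, ∑ j, a' j * Ring.choose r (j : ℕ) = G₀ (r - ν) := ⟨a, haG⟩
  have ha₀ : a₀ = a := by
    simp only [a₀, dif_pos hex']
    exact binom_unique _ _ fun l => (hex'.choose_spec l).trans (haG l).symm
  subst ha₀
  have hKreg : D.IsReg K (max (MvPolynomial.eval a₀ B) 1) :=
    (hB k K hK ((M2.tensorR (D.O (-ν))).map (kernel.ι q) ≫ θ.hom) inferInstance a₀ ha).of_le k (le_max_left _ _)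
  have hGreg : D.IsReg (kernel q) (max (MvPolynomial.eval a₀ B) 1 - ν) := fun i hi =>
    van_iso k (D.twTwist _ _ _ ≪≫ D.twIso _ (by ring)) (hKreg i hi)
  intro d hd
  refine ⟨fun i hi => hGreg.van k hi (by omega), fun i hi => ?_,
    (hGreg.of_le k hd).isGloballyGenerated D k (D.exists_gg_large (isAmple_twistOne k) hG)⟩
  refine van₃ k (D.shortExact_tw hS d) ?_ (hGreg.van k (by omega) (by omega))
  refine van_iso k (D.twTwist A _ _ ≪≫ D.twIso A (show (-ν) + (d + ν) = d by ring)) ?_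
  exact van_iso k (M2.tensorIso θ.symm (Iso.refl (D.O (d + ν))))
    ((freeMod_isReg (k := k) n p).van k hi (by omega))

end Groth.Agent.Quot18
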